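import Mathlib

/-!
Linear groups whose affine extension is binary: the moving element, mirrors, and their stabilisers.
-/

set_option autoImplicit false
set_option linter.unusedSectionVars false

namespace Cfsg.Agent.Lib.BinaryAffine

variable {V : Type*} [AddCommGroup V] {H : Type*} [Group H] [DistribMulAction H V]

/-- `x ↦ h • x - x`. -/
def delta (h : H) : V →+ V := DistribSMul.toAddMonoidHom V h - AddMonoidHom.id V

/-- The fixed space of `h`. -/
def fx (h : H) : AddSubgroup V := (delta (V := V) h).ker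

/-- The commutator space of `h`. -/
def im (h : H) : AddSubgroup V := (delta (V := V) h).range

@[simp] theorem delta_apply (h : H) (x : V) : delta h x = h • x - x := rfl

theorem mem_fx {h : H} {x : V} : x ∈ fx h ↔ h • x = x := by
  simp [fx, AddMonoidHom.mem_ker, sub_eq_zero]

theorem mem_im {h : H} {d : V} : d ∈ im h ↔ ∃ x : V, h • x = x + d := by
  simp only [im, AddMonoidHom.mem_range, delta_apply, sub_eq_iff_eq_add, add_comm d]

theorem sub_mem_im (h : H) (x : V) : h • x - x ∈ im h := ⟨x, rfl⟩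

theorem card_im_mul_card_fx [Finite V] (h : H) :
    Nat.card (im (V := V) h) * Nat.card (fx (V := V) h) = Nat.card V := by
  have := AddSubgroup.index_ker (delta (V := V) h)
  have h2 := (delta (V := V) h).ker.card_mul_index
  rw [this] at h2
  rw [mul_comm]; exact h2

theorem smul_mem_fx_conj {h g : H} {x : V} : x ∈ fx g → h • x ∈ fx (h * g * h⁻¹) := by
  simp only [mem_fx, mul_smul, inv_smul_smul]
  intro hx; rw [hx]

theorem smul_mem_im_conj {h g : H} {d : V} : d ∈ im g → h • d ∈ im (h * g * h⁻¹) := by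
  simp only [mem_im]
  rintro ⟨x, hx⟩
  exact ⟨h • x, by simp only [mul_smul, inv_smul_smul, hx, smul_add]⟩

theorem smul_mem_fx_of_commute {h g : H} (hc : Commute h g) {x : V} (hx : x ∈ fx g) :
    h • x ∈ fx g := by
  rw [mem_fx] at hx ⊢
  rw [← mul_smul, ← hc.eq, mul_smul, hx]

theorem smul_mem_im_of_commute {h g : H} (hc : Commute h g) {x : V} (hx : x ∈ im g) :
    h • x ∈ im g := by
  obtain ⟨y, hy⟩ := mem_im.1 hx
  exact mem_im.2 ⟨h • y, by rw [← mul_smul, ← hc.eq, mul_smul, hy, smul_add]⟩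

variable (H V) in
/-- The affine extension of `H` is binary. -/
def IsBinary : Prop :=
  ∀ (s : Set V) (f : V → V), (∀ x ∈ s, ∃ h : H, h • x = f x) →
    (∀ x ∈ s, ∀ y ∈ s, ∃ h : H, h • (x - y) = f x - f y) → ∃ h : H, ∀ x ∈ s, h • x = f x

/-- An element whose fixed space is non-trivial and maximal. -/
def IsMirror (g : H) (V : Type*) [AddCommGroup V] [DistribMulAction H V] : Prop :=
  g ≠ 1 ∧ fx (V := V) g ≠ ⊥ ∧
    ∀ h : H, h ≠ 1 → fx (V := V) g ≤ fx (V := V) h → fx (V := V) h = fx (V := V) g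

theorem exists_mirror [Finite V] [Finite H] {h : H} (h1 : h ≠ 1) (h0 : fx (V := V) h ≠ ⊥) :
    ∃ g : H, IsMirror g V ∧ fx (V := V) h ≤ fx (V := V) g := by
  have := Fintype.ofFinite H
  classical
  obtain ⟨g, hg, hmax⟩ :=
    (Finset.univ.filter fun k : H => k ≠ 1 ∧ fx (V := V) h ≤ fx k).exists_max_image
      (fun k => Nat.card (fx (V := V) k)) ⟨h, by simp [h1]⟩
  simp only [Finset.mem_filter, Finset.mem_univ, true_and] at hg hmax
  refine ⟨g, ⟨hg.1, fun e => h0 (le_bot_iff.1 (e ▸ hg.2)), fun k hk hle => ?_⟩, hg.2⟩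
  exact (AddSubgroup.eq_of_le_of_card_ge hle (hmax k ⟨hk, hg.2.trans hle⟩)).symm

/-- Standing hypotheses. -/
structure Ctx (p : ℕ) (V H : Type*) [AddCommGroup V] [Group H] [DistribMulAction H V] : Prop where
  prime : p.Prime
  exp : ∀ x : V, p • x = 0
  bin : IsBinary V H
  faithful : ∀ h : H, (∀ x : V, h • x = x) → h = 1
  finV : Finite V
  finH : Finite H

namespace Ctx

variable {p : ℕ} (C : Ctx p V H)
include C

theorem ext {g h : H} (he : ∀ x : V, g • x = h • x) : g = h := by
  have : h⁻¹ * g = 1 := C.faithful _ fun x => by rw [mul_smul, he, inv_smul_smul]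
  exact (inv_mul_eq_one.1 this).symm

theorem eq_zero_of_add_self (hp : p ≠ 2) {x : V} (hx : x + x = 0) : x = 0 := by
  have h2 : (2 : ℕ) • x = 0 := by rw [two_nsmul, hx]
  have d1 : addOrderOf x ∣ 2 := addOrderOf_dvd_of_nsmul_eq_zero h2
  have d2 : addOrderOf x ∣ p := addOrderOf_dvd_of_nsmul_eq_zero (C.exp x)
  have : addOrderOf x ∣ Nat.gcd 2 p := Nat.dvd_gcd d1 d2
  rw [(Nat.coprime_primes Nat.prime_two C.prime).2 (Ne.symm hp)] at this
  exact AddMonoid.addOrderOf_eq_one_iff.1 (Nat.dvd_one.1 this)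

theorem neg_eq_self (hp : p = 2) (x : V) : -x = x := by
  have := C.exp x
  rw [hp, two_nsmul] at this
  exact neg_eq_of_add_eq_zero_left this

theorem mem_of_add_self (hp : p ≠ 2) (S : AddSubgroup V) {x : V} (hx : x + x ∈ S) : x ∈ S := by
  obtain ⟨k, hk⟩ := (C.prime.odd_of_ne_two hp)
  have h1 := C.exp x
  have : (k + 1) • (x + x) = x := by
    rw [hk] at h1
    rw [← two_nsmul, ← mul_nsmul', show (k + 1) * 2 = (2 * k + 1) + 1 by ring, add_nsmul, h1,
      zero_add, one_nsmul]
  exact this ▸ S.nsmul_mem hx _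

/-- The element moving every movable point by `d`. -/
theorem exists_move (d : V) (hd : ∃ (g : H) (x : V), g • x = x + d) :
    ∃ h : H, (∀ (g : H) (x : V), g • x = x + d → h • x = x + d) ∧ h • d = -d ∧
      ∀ (g : H) (x : V), g • x = x + d → fx g ≤ fx (V := V) h := by
  obtain ⟨h, hh⟩ := C.bin {x | ∃ g : H, g • x = x + d} (fun x => x + d) (fun x hx => hx)
    (fun x _ y _ => ⟨1, by rw [one_smul, add_sub_add_right_eq_sub]⟩)
  have h1 : ∀ (g : H) (x : V), g • x = x + d → h • x = x + d := fun g x hx => hh x ⟨g, hx⟩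
  refine ⟨h, h1, ?_, fun g x hx w hw => ?_⟩
  · obtain ⟨g, x, hx⟩ := hd
    have hinv : g⁻¹ • (-(x + d)) = -(x + d) + d := by
      rw [inv_smul_eq_iff]
      rw [show -(x + d) + d = -x by abel, smul_neg, hx]
    have e1 := h1 g x hx
    have e2 := h1 _ _ hinv
    rw [smul_neg, smul_add, e1] at e2
    have : h • d = -(-(x + d) + d) - (x + d) := by rw [← e2]; abel
    rw [this]; abel
  · rw [mem_fx] at hw ⊢
    have e1 := h1 g x hx
    have e2 := h1 g (x + w) (by rw [smul_add, hx, hw]; abel)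
    rw [smul_add, e1] at e2
    exact add_left_cancel (e2.trans (by abel))

/-- A point moved by `d ≠ 0` by `g` determines a non-identity mover. -/
theorem move_ne_one {d : V} (hd : d ≠ 0) {h : H} {x : V} (hx : h • x = x + d) : h ≠ 1 := by
  rintro rfl
  rw [one_smul] at hx
  exact hd (left_eq_add.1 hx)

theorem mirror_move {g : H} (hg : IsMirror g V) {d : V} (hd : d ∈ im g) (hd0 : d ≠ 0) :
    g • d = -d ∧ ∀ (k : H) (x : V), k • x = x + d → g • x = x + d := by
  obtain ⟨x, hx⟩ := mem_im.1 hd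
  obtain ⟨h, h1, h2, h3⟩ := C.exists_move d ⟨g, x, hx⟩
  have hne : h ≠ 1 := C.move_ne_one hd0 (h1 g x hx)
  have hfx : fx (V := V) h = fx g := hg.2.2 h hne (h3 g x hx)
  have heq : g = h := by
    by_contra hcon
    have hne' : g⁻¹ * h ≠ 1 := fun e => hcon (inv_mul_eq_one.1 e)
    have hle : fx (V := V) g ≤ fx (g⁻¹ * h) := fun w hw => by
      have hw' : w ∈ fx (V := V) h := hfx ▸ hw
      rw [mem_fx] at hw hw' ⊢
      rw [mul_smul, hw', inv_smul_eq_iff, hw]
    have hx' : x ∈ fx (V := V) (g⁻¹ * h) := by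
      rw [mem_fx, mul_smul, h1 g x hx, inv_smul_eq_iff, hx]
    rw [hg.2.2 _ hne' hle, mem_fx, hx, add_eq_left] at hx'
    exact hd0 hx'
  subst heq
  exact ⟨h2, h1⟩

theorem smul_im {g : H} (hg : IsMirror g V) {d : V} (hd : d ∈ im g) : g • d = -d := by
  by_cases hd0 : d = 0
  · subst hd0; rw [smul_zero, neg_zero]
  · exact (C.mirror_move hg hd hd0).1

theorem mirror_eq {g k : H} (hg : IsMirror g V) (hk : IsMirror k V) {d : V} (h1 : d ∈ im g)
    (h2 : d ∈ im k) (hd0 : d ≠ 0) : g = k := by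
  obtain ⟨x, hx⟩ := mem_im.1 h1
  obtain ⟨y, hy⟩ := mem_im.1 h2
  have hgy := (C.mirror_move hg h1 hd0).2 k y hy
  obtain ⟨h, e1, -, e3⟩ := C.exists_move d ⟨g, x, hx⟩
  have hne : h ≠ 1 := C.move_ne_one hd0 (e1 g x hx)
  have f1 : fx (V := V) h = fx g := hg.2.2 h hne (e3 g x hx)
  have f2 : fx (V := V) h = fx k := hk.2.2 h hne (e3 k y hy)
  by_contra hcon
  have hne' : g⁻¹ * k ≠ 1 := fun e => hcon (inv_mul_eq_one.1 e)
  have hle : fx (V := V) g ≤ fx (g⁻¹ * k) := fun w hw => by
    have hw' : w ∈ fx (V := V) k := f2 ▸ f1.symm ▸ hw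
    rw [mem_fx] at hw hw' ⊢
    rw [mul_smul, hw', inv_smul_eq_iff, hw]
  have hy' : y ∈ fx (V := V) (g⁻¹ * k) := by
    rw [mem_fx, mul_smul, hy, inv_smul_eq_iff, hgy]
  rw [hg.2.2 _ hne' hle, mem_fx, hgy, add_eq_left] at hy'
  exact hd0 hy'

theorem mirror_sq {g : H} (hg : IsMirror g V) : g * g = 1 := by
  refine C.faithful _ fun x => ?_
  have := C.smul_im hg (sub_mem_im g x)
  rw [smul_sub] at this
  rw [mul_smul]
  have h2 : g • g • x = g • x + -(g • x - x) := by rw [← this]; abel
  rw [h2]; abel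

theorem mirror_inv {g : H} (hg : IsMirror g V) : g⁻¹ = g :=
  inv_eq_of_mul_eq_one_left (C.mirror_sq hg)

theorem im_ne_bot {g : H} (hg : IsMirror g V) : ∃ d : V, d ∈ im g ∧ d ≠ 0 := by
  by_contra hcon
  push Not at hcon
  exact hg.1 (C.faithful g fun x => sub_eq_zero.1 (hcon _ (sub_mem_im g x)))

theorem mirror_conj {g : H} (hg : IsMirror g V) (h : H) : IsMirror (h * g * h⁻¹) V := by
  refine ⟨fun e => hg.1 ?_, fun e => hg.2.1 ?_, fun k hk hle => ?_⟩
  · rw [conj_eq_one_iff] at e; exact e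
  · rw [eq_bot_iff]
    intro x hx
    have := smul_mem_fx_conj (h := h) hx
    rw [e, AddSubgroup.mem_bot, smul_eq_zero_iff_eq] at this
    exact this
  · refine le_antisymm (fun x hx => ?_) hle
    have hk' : h⁻¹ * k * h ≠ 1 := fun e => hk (by
      have : k = h * (h⁻¹ * k * h) * h⁻¹ := by group
      rw [this, e]; group)
    have hle' : fx (V := V) g ≤ fx (h⁻¹ * k * h) := fun y hy => by
      have := mem_fx.1 (hle (smul_mem_fx_conj (h := h) hy))
      rw [mem_fx, mul_smul, mul_smul, this, inv_smul_smul]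
    have hx' : h⁻¹ • x ∈ fx (V := V) g := by
      rw [← hg.2.2 _ hk' hle']
      have := smul_mem_fx_conj (h := h⁻¹) hx
      rwa [inv_inv] at this
    have := smul_mem_fx_conj (h := h) hx'
    rwa [smul_inv_smul] at this

theorem commute_of_fix {g : H} (hg : IsMirror g V) {h : H} {u : V} (hu : u ∈ im g) (hu0 : u ≠ 0)
    (hh : h • u = u) : Commute h g := by
  have h1 : u ∈ im (V := V) (h * g * h⁻¹) := by
    have := smul_mem_im_conj (h := h) hu
    rwa [hh] at this
  have := C.mirror_eq (C.mirror_conj hg h) hg h1 hu hu0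
  exact mul_inv_eq_iff_eq_mul.1 this

theorem fix_im_of_fix {g : H} (hg : IsMirror g V) {h : H} {u : V} (hu : u ∈ im g) (hu0 : u ≠ 0)
    (hh : h • u = u) {e : V} (he : e ∈ im g) : h • e = e := by
  have hc := C.commute_of_fix hg hu hu0 hh
  by_contra hne
  set d := h • e - e with hd
  have hdim : d ∈ im (V := V) g := (im g).sub_mem (smul_mem_im_of_commute hc he) he
  have hd0 : d ≠ 0 := sub_ne_zero.2 hne
  have e1 : h • e = e + d := by rw [hd]; abel
  have e2 : h • (e + u) = (e + u) + d := by rw [smul_add, e1, hh]; abel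
  have m := (C.mirror_move hg hdim hd0).2
  have g1 := m h e e1
  have g2 := m h (e + u) e2
  rw [smul_add, g1, C.smul_im hg hu] at g2
  have huu : u + u = 0 := by
    have : u + u = (e + u + d) - (e + d + -u) := by abel
    rw [this, g2, sub_self]
  rw [C.smul_im hg he] at g1
  by_cases hp : p = 2
  · rw [C.neg_eq_self hp] at g1
    exact hd0 (left_eq_add.1 g1)
  · exact hu0 (C.eq_zero_of_add_self hp huu)

/-- An element commuting with a mirror in characteristic two fixes its commutator space. -/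
theorem fix_im_two (hp : p = 2) {g h : H} (hg : IsMirror g V) (hc : Commute h g) {e : V}
    (he : e ∈ im g) : h • e = e := by
  by_contra hne
  set d := h • e - e with hd
  have hdim : d ∈ im (V := V) g := (im g).sub_mem (smul_mem_im_of_commute hc he) he
  have hd0 : d ≠ 0 := sub_ne_zero.2 hne
  have g1 := (C.mirror_move hg hdim hd0).2 h e (by rw [hd]; abel)
  rw [C.smul_im hg he, C.neg_eq_self hp] at g1
  exact hd0 (left_eq_add.1 g1)

/-- Distinct commuting mirrors fix each other's commutator space. -/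
theorem fix_im_of_commute {g a : H} (hg : IsMirror g V) (ha : IsMirror a V) (hc : Commute a g)
    (hne : a ≠ g) {e : V} (he : e ∈ im g) : a • e = e := by
  by_cases hp : p = 2
  · exact C.fix_im_two hp hg hc he
  by_contra hcon
  have hu : e + a • e ∈ im (V := V) g := (im g).add_mem he (smul_mem_im_of_commute hc he)
  by_cases hu0 : e + a • e = 0
  · have h2 : a • e - e = -(e + e) := by
      rw [show a • e = -e from eq_neg_of_add_eq_zero_right hu0]; abel
    have h3 : e + e ∈ im (V := V) a := by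
      have := sub_mem_im a e
      rw [h2] at this
      simpa using (im a).neg_mem this
    have h4 : e + e ≠ 0 := fun h => hcon (by
      rw [C.eq_zero_of_add_self hp h, smul_zero])
    exact hne (C.mirror_eq ha hg h3 ((im g).add_mem he he) h4)
  · exact hcon (C.fix_im_of_fix hg hu hu0
      (by rw [smul_add, ← mul_smul, C.mirror_sq ha, one_smul, add_comm]) he)

end Ctx

end Cfsg.Agent.Lib.BinaryAffine
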