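import Cfsg.Agent.Lib.BinaryAffine.Plane

/-!
Counting mirrors by their commutator spaces.
-/

set_option autoImplicit false
set_option linter.unusedSectionVars false

namespace Cfsg.Agent.Lib.BinaryAffine

variable {V : Type*} [AddCommGroup V] {H : Type*} [Group H] [DistribMulAction H V]

theorem card_nonzero [Finite V] (S : AddSubgroup V) :
    Nat.card {v : S // v ≠ 0} = Nat.card S - 1 := by
  classical
  have := Fintype.ofFinite S
  rw [Nat.card_eq_fintype_card, Nat.card_eq_fintype_card, Fintype.card_subtype_compl,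
    Fintype.card_subtype_eq]

theorem exists_ne_zero [Finite V] {S : AddSubgroup V} (h : 1 < Nat.card S) : ∃ v ∈ S, v ≠ 0 := by
  by_contra hcon
  push Not at hcon
  rw [(AddSubgroup.eq_bot_iff_forall S).2 hcon, AddSubgroup.card_bot] at h
  exact lt_irrefl 1 h

theorem inf_ne_bot_of_card [Finite V] {A B X : AddSubgroup V} (hA : A ≤ X) (hB : B ≤ X)
    (h : Nat.card X < Nat.card A * Nat.card B) : ∃ v ∈ A ⊓ B, v ≠ 0 := by
  by_contra hcon
  push Not at hcon
  have h0 : A ⊓ B = ⊥ := (AddSubgroup.eq_bot_iff_forall _).2 hcon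
  have := AddSubgroup.card_le_of_le (sup_le hA hB)
  rw [card_sup_of_disjoint _ _ h0] at this
  omega

namespace Ctx

variable {p : ℕ} (C : Ctx p V H)
include C

theorem one_lt_card_im {g : H} (hg : IsMirror g V) : 1 < Nat.card (im (V := V) g) := by
  have := C.finV
  obtain ⟨d, hd, hd0⟩ := C.im_ne_bot hg
  exact Finite.one_lt_card_iff_nontrivial.2
    ⟨⟨⟨d, hd⟩, 0, fun e => hd0 (congrArg Subtype.val e)⟩⟩

theorem card_eq_pow (S : AddSubgroup V) : ∃ n : ℕ, Nat.card S = p ^ n := by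
  have := C.finV
  have : Fact p.Prime := ⟨C.prime⟩
  have hpg : IsPGroup p (Multiplicative S) := fun x => ⟨1, by
    rw [pow_one]
    refine Multiplicative.toAdd.injective (Subtype.ext ?_)
    simpa using C.exp ((Multiplicative.toAdd x : S) : V)⟩
  obtain ⟨n, hn⟩ := IsPGroup.iff_card.1 hpg
  exact ⟨n, hn ▸ Nat.card_congr Multiplicative.ofAdd⟩

theorem dvd_card_im {g : H} (hg : IsMirror g V) : p ∣ Nat.card (im (V := V) g) := by
  obtain ⟨n, hn⟩ := C.card_eq_pow (im g)
  rw [hn]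
  refine dvd_pow_self p fun h0 => ?_
  have := C.one_lt_card_im hg
  rw [hn, h0, pow_zero] at this
  exact lt_irrefl 1 this

theorem card_roots {q : ℕ} (S : AddSubgroup V) (P : H → Prop)
    (hP : ∀ n, P n → IsMirror n V ∧ im (V := V) n ≤ S ∧ Nat.card (im (V := V) n) = q)
    (hcov : ∀ v ∈ S, v ≠ 0 → ∃ n, P n ∧ v ∈ im (V := V) n) :
    Nat.card {n // P n} * (q - 1) = Nat.card S - 1 := by
  have := C.finV; have := C.finH
  classical
  have := Fintype.ofFinite {n // P n}
  let f : (Σ n : {n // P n}, {v : im (V := V) n.1 // v ≠ 0}) → {v : S // v ≠ 0} := fun x =>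
    ⟨⟨x.2.1.1, (hP _ x.1.2).2.1 x.2.1.2⟩, fun e => x.2.2 (Subtype.ext (congrArg Subtype.val e :))⟩
  have hf : Function.Bijective f := by
    constructor
    · rintro ⟨⟨n, hn⟩, ⟨⟨v, hv⟩, hv0⟩⟩ ⟨⟨m, hm⟩, ⟨⟨w, hw⟩, hw0⟩⟩ e
      have e' : v = w := congrArg (fun z => ((z : S) : V)) (congrArg Subtype.val e)
      subst e'
      obtain rfl : n = m := C.mirror_eq (hP n hn).1 (hP m hm).1 hv hw
        (fun h => hv0 (Subtype.ext h))
      rfl
    · rintro ⟨⟨v, hv⟩, hv0⟩
      obtain ⟨n, hn, hvn⟩ := hcov v hv (fun h => hv0 (Subtype.ext h))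
      exact ⟨⟨⟨n, hn⟩, ⟨⟨v, hvn⟩, fun e => hv0 (Subtype.ext (congrArg Subtype.val e :))⟩⟩, rfl⟩
  have hcard := Nat.card_congr (Equiv.ofBijective f hf)
  rw [Nat.card_sigma, card_nonzero S] at hcard
  rw [← hcard, Finset.sum_eq_card_nsmul (b := q - 1) fun n _ => by
    rw [card_nonzero, (hP n.1 n.2).2.2], Finset.card_univ, ← Nat.card_eq_fintype_card, smul_eq_mul]

variable {g k : H} (hg : IsMirror g V) (hk : IsMirror k V) (hnc : ¬ Commute k g)
include hg hk hnc

theorem card_members :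
    Nat.card {n // InPlane g k n V} = Nat.card (im (V := V) g) + 1 := by
  have h := C.card_roots (q := Nat.card (im (V := V) g)) (pl g k) (fun n => InPlane g k n V)
    (fun n hn => ⟨hn.1, hn.2.1, (C.card_im_of_ax_le hg hk hnc hn.1 hn.2.2).1⟩)
    (fun v hv hv0 => C.root hg hk hnc hv hv0)
  rw [C.card_pl hg hk hnc] at h
  set q := Nat.card (im (V := V) g) with hq
  have h1 : 1 < q := C.one_lt_card_im hg
  obtain ⟨r, hr⟩ : ∃ r, q = r + 2 := ⟨q - 2, by omega⟩
  have h2 : q * q - 1 = (q + 1) * (q - 1) := by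
    rw [hr, show r + 2 - 1 = r + 1 by omega, show (r + 2) * (r + 2) = (r + 2 + 1) * (r + 1) + 1 by ring]
    omega
  rw [h2] at h
  exact Nat.eq_of_mul_eq_mul_right (by omega) h

end Ctx

end Cfsg.Agent.Lib.BinaryAffine
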