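import Cfsg.Agent.Lib.BinaryAffine.Irreducible

/-!
A linear group filled by one plane is the orthogonal group of an anisotropic plane.
-/

set_option autoImplicit false
set_option linter.unusedSectionVars false

open scoped IsMulCommutative

namespace Cfsg.Agent.Lib.BinaryAffine

namespace Ctx

section Structure

variable {V : Type*} [AddCommGroup V] {H : Type*} [Group H] [DistribMulAction H V]
variable {p : ℕ} (C : Ctx p V H) {g k : H} (hg : IsMirror g V) (hk : IsMirror k V)
  (hnc : ¬ Commute k g) (htop : pl (V := V) g k = ⊤)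
include C hg hk hnc htop

theorem ax_eq_bot : ax (V := V) g k = ⊥ := by
  have := C.pl_inf_ax hg hk hnc
  rwa [htop, top_inf_eq] at this

theorem inPlane_all {m : H} (hm : IsMirror m V) : InPlane g k m V :=
  ⟨hm, htop ▸ le_top, (C.ax_eq_bot hg hk hnc htop).le.trans bot_le⟩

theorem fixer_mirror {l : H} (hl : l ≠ 1) {x : V} (hx : x ≠ 0) (hlx : l • x = x) :
    IsMirror l V :=
  C.fix_mirror hg hk hnc hl ((C.ax_eq_bot hg hk hnc htop).le.trans bot_le)
    (by rw [C.ax_eq_bot hg hk hnc htop, AddSubgroup.mem_bot]; exact hx) hlx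

theorem mirror_inverts {m : H} (hm : IsMirror m V) : m * (g * k) * m⁻¹ = (g * k)⁻¹ := by
  obtain ⟨y, hy, hy0⟩ : ∃ y ∈ fx (V := V) m, y ≠ 0 := by
    by_contra hcon
    push Not at hcon
    exact hm.2.1 ((AddSubgroup.eq_bot_iff_forall _).2 hcon)
  have hyp : y ∈ pl (V := V) g k := htop ▸ AddSubgroup.mem_top y
  obtain ⟨-, m', -, hm', -, hm'y, hinv⟩ := C.cover hg hk hnc hyp hy0
  rwa [C.fix_unique hg hk hnc (C.inPlane_all hg hk hnc htop hm) hm' hyp hy0 (mem_fx.1 hy) hm'y]

theorem mirror_not_mem {m : H} (hm : IsMirror m V) : ¬ Commute m (g * k) := fun h => by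
  have e := C.mirror_inverts hg hk hnc htop hm
  rw [h.eq, mul_inv_cancel_right, mul_inv_rev, C.mirror_inv hg, C.mirror_inv hk] at e
  exact hnc e.symm

theorem mirror_or_commute (s : H) : IsMirror s V ∨ Commute s (g * k) := by
  by_cases h1 : s = 1
  · exact Or.inr (h1 ▸ Commute.one_left _)
  by_cases hfix : ∃ x : V, x ≠ 0 ∧ s • x = x
  · obtain ⟨x, hx, hsx⟩ := hfix
    exact Or.inl (C.fixer_mirror hg hk hnc htop h1 hx hsx)
  push Not at hfix
  right
  by_cases hneg : ∀ x : V, s • x = -x
  · exact C.ext fun x => by simp only [mul_smul, hneg, smul_neg]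
  push Not at hneg
  obtain ⟨x, hx⟩ := hneg
  have hx0 : x ≠ 0 := by rintro rfl; exact hx (by rw [smul_zero, neg_zero])
  set d := s • x - x with hd
  have hmove : s • x = x + d := by rw [hd]; abel
  have hd0 : d ≠ 0 := fun h0 => hfix x hx0 (by rw [hmove, h0, add_zero])
  obtain ⟨h, e1, e2, -⟩ := C.exists_move d ⟨s, x, hmove⟩
  have hhx := e1 s x hmove
  have hhs : h • s • x = x := by rw [hmove, smul_add, hhx, e2]; abel
  have hm1 : IsMirror h V := C.fixer_mirror hg hk hnc htop (C.move_ne_one hd0 hhx)
    (x := x + s • x) (fun h0 => hx (eq_neg_of_add_eq_zero_right h0))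
    (by rw [smul_add, hhs, hhx, ← hmove, add_comm])
  have hne : h * s ≠ 1 := fun h0 => by
    have hs : s = h := by
      have := inv_eq_of_mul_eq_one_right h0
      rw [C.mirror_inv hm1] at this
      exact this.symm
    obtain ⟨y, hy, hy0⟩ : ∃ y ∈ fx (V := V) h, y ≠ 0 := by
      by_contra hcon
      push Not at hcon
      exact hm1.2.1 ((AddSubgroup.eq_bot_iff_forall _).2 hcon)
    exact hfix y hy0 (by rw [hs]; exact mem_fx.1 hy)
  have hm2 : IsMirror (h * s) V :=
    C.fixer_mirror hg hk hnc htop hne hx0 (by rw [mul_smul, hhs])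
  refine mul_inv_eq_iff_eq_mul.1 ?_
  calc s * (g * k) * s⁻¹ = h⁻¹ * (h * s * (g * k) * (h * s)⁻¹) * h := by group
    _ = (h⁻¹ * (g * k) * h)⁻¹ := by rw [C.mirror_inverts hg hk hnc htop hm2]; group
    _ = g * k := by
      have := C.mirror_inverts hg hk hnc htop hm1
      rw [C.mirror_inv hm1] at this ⊢
      rw [this, inv_inv]

theorem mirror_mul_of_commute {s : H} (hs : Commute s (g * k)) : IsMirror (g * s) V := by
  refine (C.mirror_or_commute hg hk hnc htop (g * s)).resolve_right fun h => ?_
  refine C.mirror_not_mem hg hk hnc htop hg ?_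
  have := h.mul_left hs.inv_left
  rwa [mul_inv_cancel_right] at this

theorem mirror_mul_mirror {m n : H} (hm : IsMirror m V) (hn : IsMirror n V) :
    Commute (m * n) (g * k) := by
  refine mul_inv_eq_iff_eq_mul.1 ?_
  calc m * n * (g * k) * (m * n)⁻¹ = m * (n * (g * k) * n⁻¹) * m⁻¹ := by group
    _ = (m * (g * k) * m⁻¹)⁻¹ := by rw [C.mirror_inverts hg hk hnc htop hn]; group
    _ = g * k := by rw [C.mirror_inverts hg hk hnc htop hm, inv_inv]

theorem conj_commute {s : H} (hs : Commute s (g * k)) : g * s * g = s⁻¹ := by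
  have h := C.mirror_sq (C.mirror_mul_of_commute hg hk hnc htop hs)
  rw [← mul_assoc] at h
  exact eq_inv_of_mul_eq_one_left h

theorem commute_comm {s t : H} (hs : Commute s (g * k)) (ht : Commute t (g * k)) :
    Commute s t := by
  have h1 := C.conj_commute hg hk hnc htop (hs.mul_left ht)
  have hgg := C.mirror_sq hg
  have h2 : g * (s * t) * g = (g * s * g) * (g * t * g) := by
    rw [show g * s * g * (g * t * g) = g * s * (g * g) * t * g by simp only [mul_assoc], hgg,
      mul_one]
    simp only [mul_assoc]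
  rw [h2, C.conj_commute hg hk hnc htop hs, C.conj_commute hg hk hnc htop ht, ← mul_inv_rev,
    inv_inj] at h1
  exact h1.symm

theorem card_commute :
    Nat.card {s : H // Commute s (g * k)} = Nat.card (im (V := V) g) + 1 := by
  rw [← C.card_members hg hk hnc]
  have hgg := C.mirror_sq hg
  refine Nat.card_congr
    { toFun := fun s => ⟨g * s.1, C.inPlane_all hg hk hnc htop (C.mirror_mul_of_commute hg hk hnc htop s.2)⟩
      invFun := fun m => ⟨g * m.1, C.mirror_mul_mirror hg hk hnc htop hg m.2.1⟩
      left_inv := fun s => Subtype.ext (by simp only [← mul_assoc, hgg, one_mul])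
      right_inv := fun m => Subtype.ext (by simp only [← mul_assoc, hgg, one_mul]) }

theorem semiregular {s : H} (hs : Commute s (g * k)) {x : V} (hx : x ≠ 0) (hsx : s • x = x) :
    s = 1 := by
  by_contra h
  exact C.mirror_not_mem hg hk hnc htop (C.fixer_mirror hg hk hnc htop h hx hsx) hs

theorem irreducible (hirr : ∀ S : AddSubgroup V, (∀ h : H, ∀ x ∈ S, h • x ∈ S) → S = ⊥ ∨ S = ⊤)
    (U : AddSubgroup V) (hU : ∀ s : H, Commute s (g * k) → ∀ x ∈ U, s • x ∈ U) :
    U = ⊥ ∨ U = ⊤ := by
  have := C.finV; have := C.finH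
  by_contra hcon
  push Not at hcon
  obtain ⟨hb, ht⟩ := hcon
  set G := DistribSMul.toAddMonoidHom V g with hG
  set U' := U.map G with hU'
  have hgg : ∀ x : V, g • g • x = x := fun x => by rw [← mul_smul, C.mirror_sq hg, one_smul]
  have hA : ∀ s : H, Commute s (g * k) → ∀ x ∈ U', s • x ∈ U' := by
    rintro s hs _ ⟨x, hx, rfl⟩
    refine ⟨s⁻¹ • x, hU _ hs.inv_left x hx, ?_⟩
    simp only [hG, DistribSMul.toAddMonoidHom_apply]
    rw [← mul_smul, ← mul_smul, ← C.conj_commute hg hk hnc htop hs,
      show g * (g * s * g) = s * g by rw [← mul_assoc, ← mul_assoc, C.mirror_sq hg, one_mul]]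
  have hswap : ∀ x, (x ∈ U → g • x ∈ U') ∧ (x ∈ U' → g • x ∈ U) := fun x =>
    ⟨fun hx => ⟨x, hx, rfl⟩, fun ⟨y, hy, e⟩ => by
      rw [← e]; simpa [hG, hgg] using hy⟩
  have hinv : ∀ S : AddSubgroup V, (∀ s : H, Commute s (g * k) → ∀ x ∈ S, s • x ∈ S) →
      (∀ x ∈ S, g • x ∈ S) → ∀ h : H, ∀ x ∈ S, h • x ∈ S := by
    intro S h1 h2 h x hx
    rcases C.mirror_or_commute hg hk hnc htop h with hm | hc
    · have := h1 (h * g) (C.mirror_mul_mirror hg hk hnc htop hm hg) _ (h2 x hx)
      rwa [mul_smul, hgg] at this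
    · exact h1 h hc x hx
  have hinf : U ⊓ U' = ⊥ := by
    refine (hirr _ (hinv (U ⊓ U') (fun s hs x hx => ⟨hU s hs x hx.1, hA s hs x hx.2⟩)
      fun x hx => ⟨(hswap x).2 hx.2, (hswap x).1 hx.1⟩)).resolve_right fun h => ?_
    exact ht (top_le_iff.1 (h ▸ inf_le_left))
  have hsup : U ⊔ U' = ⊤ := by
    refine (hirr _ (hinv (U ⊔ U') (fun s hs x hx => ?_) fun x hx => ?_)).resolve_left fun h => ?_
    · obtain ⟨u, hu, v, hv, rfl⟩ := AddSubgroup.mem_sup.1 hx
      rw [smul_add]; exact AddSubgroup.add_mem_sup (hU s hs u hu) (hA s hs v hv)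
    · obtain ⟨u, hu, v, hv, rfl⟩ := AddSubgroup.mem_sup.1 hx
      rw [smul_add, add_comm]; exact AddSubgroup.add_mem_sup ((hswap v).2 hv) ((hswap u).1 hu)
    · exact hb (le_bot_iff.1 (h ▸ le_sup_left))
  set q := Nat.card (im (V := V) g) with hq
  have hU'card : Nat.card U' = Nat.card U := Nat.card_congr
    (U.equivMapOfInjective G (MulAction.injective g)).toEquiv.symm
  have hsq : Nat.card U * Nat.card U = q * q := by
    have h := card_sup_of_disjoint _ _ hinf
    rw [hsup, ← htop, C.card_pl hg hk hnc, hU'card] at h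
    exact h.symm
  have hUq : Nat.card U = q := Nat.mul_self_inj.1 hsq
  obtain ⟨u, hu, hu0⟩ : ∃ u ∈ U, u ≠ 0 := by
    by_contra h
    push Not at h
    exact hb ((AddSubgroup.eq_bot_iff_forall _).2 h)
  have hle : Nat.card {s : H // Commute s (g * k)} ≤ Nat.card U := by
    refine Nat.card_le_card_of_injective (fun s => ⟨s.1 • u, hU s.1 s.2 u hu⟩) fun s t e => ?_
    have e' : s.1 • u = t.1 • u := congrArg Subtype.val e
    refine Subtype.ext ?_
    have := C.semiregular hg hk hnc htop (t.2.inv_left.mul_left s.2) hu0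
      (by rw [mul_smul, e', inv_smul_smul])
    exact (inv_mul_eq_one.1 this).symm
  rw [C.card_commute hg hk hnc htop, hUq] at hle
  omega

end Structure

variable {V : Type} [AddCommGroup V] {H : Type*} [Group H] [DistribMulAction H V]
variable {p : ℕ} (C : Ctx p V H) {g k : H} (hg : IsMirror g V) (hk : IsMirror k V)
  (hnc : ¬ Commute k g) (htop : pl (V := V) g k = ⊤)
include C hg hk hnc htop

theorem field_model
    (hirr : ∀ S : AddSubgroup V, (∀ h : H, ∀ x ∈ S, h • x ∈ S) → S = ⊥ ∨ S = ⊤) :
    ∃ (F E : Type) (_ : Field F) (_ : Fintype F) (_ : Field E) (_ : Fintype E) (_ : Algebra F E)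
      (e : V ≃+ E), Module.finrank F E = 2 ∧
      ∀ f : V → V, (∃ h : H, ∀ v, f v = h • v) ↔
        ∃ (a : E) (φ : E ≃ₐ[F] E), Algebra.norm F a = 1 ∧ ∀ v, e (f v) = a * φ (e v) := by
  classical
  have := C.finV; have := C.finH
  set q := Nat.card (im (V := V) g) with hq
  have hq1 : 1 < q := C.one_lt_card_im hg
  let T : H →* AddMonoid.End V := DistribMulAction.toAddMonoidEnd H V
  have hT : ∀ (h : H) (v : V), T h v = h • v := fun _ _ => rfl
  let S : Set (AddMonoid.End V) := T '' {s | Commute s (g * k)}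
  have hcomm : ∀ a ∈ S, ∀ b ∈ S, a * b = b * a := by
    rintro _ ⟨s, hs, rfl⟩ _ ⟨t, ht, rfl⟩
    rw [← map_mul, ← map_mul, (C.commute_comm hg hk hnc htop hs ht).eq]
  let K := Subring.closure S
  have hKc : IsMulCommutative K := Subring.isMulCommutative_closure hcomm
  let _ : CommRing K :=
    { (inferInstance : Ring K) with mul_comm := fun a b => hKc.is_comm.comm a b }
  let mk : ∀ s : H, Commute s (g * k) → K := fun s hs => ⟨T s, Subring.subset_closure ⟨s, hs, rfl⟩⟩
  have hker : ∀ a : K, a ≠ 0 → ∀ v : V, (a : AddMonoid.End V) v = 0 → v = 0 := by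
    intro a ha v hv
    let U : AddSubgroup V := (a : AddMonoid.End V).ker
    have hU : U = ⊥ := by
      refine (C.irreducible hg hk hnc htop hirr U fun s hs x hx => ?_).resolve_right fun h => ha ?_
      · have e : (a : AddMonoid.End V) * T s = T s * (a : AddMonoid.End V) :=
          congrArg Subtype.val (hKc.is_comm.comm a (mk s hs))
        change (a : AddMonoid.End V) (s • x) = 0
        show ((a : AddMonoid.End V) * T s) x = 0
        rw [e]
        exact (congrArg (T s) hx).trans (map_zero _)
      · refine Subtype.ext (AddMonoidHom.ext fun x => ?_)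
        exact (h ▸ AddSubgroup.mem_top x : x ∈ U)
    have : v ∈ U := hv
    rwa [hU, AddSubgroup.mem_bot] at this
  obtain ⟨x0, hx0, hx00⟩ : ∃ y ∈ fx (V := V) g, y ≠ 0 := by
    by_contra hcon
    push Not at hcon
    exact hg.2.1 ((AddSubgroup.eq_bot_iff_forall _).2 hcon)
  have : Nontrivial K := ⟨⟨1, 0, fun h => hx00 (congrArg (fun a : K => (a : AddMonoid.End V) x0) h)⟩⟩
  have : NoZeroDivisors K := ⟨fun {a b} hab => by
    by_contra hcon
    push Not at hcon
    refine hcon.2 (Subtype.ext (AddMonoidHom.ext fun x => ?_))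
    exact hker a hcon.1 _ (congrArg (fun c : K => (c : AddMonoid.End V) x) hab :)⟩
  have : IsDomain K := NoZeroDivisors.to_isDomain _
  have : Finite (AddMonoid.End V) := Finite.of_injective _ DFunLike.coe_injective
  let _ : Fintype K := Fintype.ofFinite K
  let _ : Field K := Fintype.fieldOfDomain K
  let ev : K →+ V :=
    { toFun := fun a => (a : AddMonoid.End V) x0
      map_zero' := rfl
      map_add' := fun _ _ => rfl }
  have hev : Function.Bijective ev := by
    constructor
    · refine (injective_iff_map_eq_zero ev).2 fun a ha => ?_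
      by_contra h
      exact hx00 (hker a h x0 ha)
    · have htopU : ev.range = ⊤ := by
        refine (C.irreducible hg hk hnc htop hirr _ fun s hs x hx => ?_).resolve_left fun h => ?_
        · obtain ⟨a, rfl⟩ := hx
          exact ⟨mk s hs * a, rfl⟩
        · have : x0 ∈ ev.range := ⟨1, rfl⟩
          rw [h, AddSubgroup.mem_bot] at this
          exact hx00 this
      exact AddMonoidHom.range_eq_top.1 htopU
  let e : V ≃+ K := (AddEquiv.ofBijective ev hev).symm
  have he : ∀ v, ev (e v) = v := fun v => (AddEquiv.ofBijective ev hev).apply_symm_apply v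
  have hgg : T g * T g = 1 := by rw [← map_mul, C.mirror_sq hg, map_one]
  let cj : AddMonoid.End V →+* AddMonoid.End V :=
    { toFun := fun a => T g * a * T g
      map_one' := by rw [mul_one, hgg]
      map_mul' := fun a b => by
        rw [show T g * a * T g * (T g * b * T g) = T g * a * (T g * T g) * b * T g by
          simp only [mul_assoc], hgg, mul_one]
        simp only [mul_assoc]
      map_zero' := by rw [mul_zero, zero_mul]
      map_add' := fun a b => by rw [mul_add, add_mul] }
  have hcjS : ∀ a ∈ K, cj a ∈ K := by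
    have : K ≤ K.comap cj := Subring.closure_le.2 (by
      rintro _ ⟨s, hs, rfl⟩
      refine Subring.subset_closure ⟨s⁻¹, hs.inv_left, ?_⟩
      show T s⁻¹ = T g * T s * T g
      rw [← map_mul, ← map_mul, C.conj_commute hg hk hnc htop hs])
    exact fun a ha => this ha
  have hcj2 : ∀ a, cj (cj a) = a := fun a => by
    show T g * (T g * a * T g) * T g = a
    rw [← mul_assoc, ← mul_assoc, hgg, one_mul, mul_assoc, hgg, mul_one]
  let σ : K ≃+* K :=
    { toFun := fun a => ⟨cj a, hcjS _ a.2⟩
      invFun := fun a => ⟨cj a, hcjS _ a.2⟩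
      left_inv := fun a => Subtype.ext (hcj2 _)
      right_inv := fun a => Subtype.ext (hcj2 _)
      map_mul' := fun a b => Subtype.ext (map_mul cj _ _)
      map_add' := fun a b => Subtype.ext (map_add cj _ _) }
  have hσev : ∀ a : K, g • ev a = ev (σ a) := fun a => by
    show g • (a : AddMonoid.End V) x0 = g • ((a : AddMonoid.End V) (g • x0))
    rw [mem_fx.1 hx0]
  let F : Subfield K := (σ : K →+* K).eqLocusField (RingHom.id K)
  have hFcard : Nat.card F = q := by
    have e1 : Nat.card F = Nat.card (fx (V := V) g) := by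
      refine Nat.card_congr (Equiv.ofBijective (fun a => (⟨ev a.1, mem_fx.2 ?_⟩ : fx (V := V) g))
        ⟨fun a b h => Subtype.ext (hev.1 (congrArg Subtype.val h)), fun v => ?_⟩)
      · rw [hσev, show σ a.1 = a.1 from a.2]
      · refine ⟨⟨e v.1, hev.1 ?_⟩, Subtype.ext (he _)⟩
        show ev (σ (e v.1)) = ev (e v.1)
        rw [← hσev, he, mem_fx.1 v.2]
    rw [e1, C.card_fx_of_ax_le hg hk hnc hg inf_le_left, C.ax_eq_bot hg hk hnc htop,
      AddSubgroup.card_bot, one_mul]
  have hKcard : Nat.card K = q * q := by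
    rw [← Nat.card_congr e.toEquiv, ← AddSubgroup.card_top (G := V), ← htop, C.card_pl hg hk hnc]
  have hfr : Module.finrank F K = 2 := by
    have h := Module.natCard_eq_pow_finrank (K := F) (V := K)
    rw [hKcard, hFcard, ← sq] at h
    exact (Nat.pow_right_injective hq1 h).symm
  let _ : Fintype F := Fintype.ofFinite F
  let σ' : K ≃ₐ[F] K := AlgEquiv.ofRingEquiv (f := σ) fun a => a.2
  have hσne : σ' ≠ 1 := fun h => by
    have : Nat.card F = Nat.card K := Nat.card_congr
      (Equiv.subtypeUnivEquiv fun a => show σ a = a from AlgEquiv.congr_fun h a)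
    rw [hFcard, hKcard] at this
    nlinarith
  have hgal : ∀ φ : K ≃ₐ[F] K, φ = 1 ∨ φ = σ' := by
    intro φ
    by_contra hcon
    push Not at hcon
    have h3 : 3 ≤ Nat.card Gal(K/F) := by
      rw [Nat.card_eq_fintype_card]
      exact Fintype.two_lt_card_iff.2 ⟨φ, 1, σ', hcon.1, hcon.2, Ne.symm hσne⟩
    rw [IsGalois.card_aut_eq_finrank, hfr] at h3
    omega
  have huniv : (Finset.univ : Finset Gal(K/F)) = {1, σ'} := by
    ext φ; simpa using hgal φ
  have hnorm : ∀ a : K, Algebra.norm F a = 1 ↔ a * σ a = 1 := fun a => by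
    have h := Algebra.norm_eq_prod_automorphisms F a
    rw [huniv, Finset.prod_pair (Ne.symm hσne)] at h
    change _ = a * σ a at h
    rw [← h]
    exact (map_eq_one_iff _ (algebraMap F K).injective).symm
  have hfrob : ∀ a : K, σ a = a ^ q := by
    intro a
    have hcq : Fintype.card F = q := by rw [← Nat.card_eq_fintype_card, hFcard]
    have hfne : FiniteField.frobeniusAlgEquivOfAlgebraic F K ≠ 1 := fun h => by
      have hall : ∀ b : K, b ^ q = b := fun b => by
        have := congrFun (congrArg (fun φ : K ≃ₐ[F] K => (φ : K → K)) h) b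
        simpa [FiniteField.coe_frobeniusAlgEquivOfAlgebraic, hcq] using this
      have hle : Fintype.card K ≤ q := by
        have hne : (Polynomial.X ^ q - Polynomial.X : Polynomial K) ≠ 0 :=
          FiniteField.X_pow_card_sub_X_ne_zero K hq1
        have h2 : (Finset.univ : Finset K).val ≤ (Polynomial.X ^ q - Polynomial.X : Polynomial K).roots :=
          (Multiset.le_iff_subset Finset.univ.nodup).2 fun b _ =>
            (Polynomial.mem_roots hne).2 (by simp [hall b])
        have h3 := (Multiset.card_le_card h2).trans (Polynomial.card_roots' _)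
        rwa [FiniteField.X_pow_card_sub_X_natDegree_eq K hq1] at h3
      rw [← Nat.card_eq_fintype_card, hKcard] at hle
      nlinarith
    have := (hgal (FiniteField.frobeniusAlgEquivOfAlgebraic F K)).resolve_left hfne
    have h2 := congrFun (congrArg (fun φ : K ≃ₐ[F] K => (φ : K → K)) this) a
    simp only [FiniteField.coe_frobeniusAlgEquivOfAlgebraic, hcq] at h2
    exact h2.symm
  have hmkinj : ∀ s t hs ht, mk s hs = mk t ht → s = t := fun s t _ _ h =>
    C.ext fun v => congrArg (fun a : K => (a : AddMonoid.End V) v) h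
  have hmknorm : ∀ s hs, mk s hs * σ (mk s hs) = 1 := fun s hs => Subtype.ext <| by
    show T s * (T g * T s * T g) = 1
    rw [← map_mul, ← map_mul, C.conj_commute hg hk hnc htop hs, ← map_mul, mul_inv_cancel, map_one]
  have hsurj : ∀ a : K, a * σ a = 1 → ∃ s hs, mk s hs = a := by
    let R : Finset K := Polynomial.nthRootsFinset (q + 1) (1 : K)
    have hmem : ∀ a : K, a * σ a = 1 → a ∈ R := fun a ha => by
      rw [Polynomial.mem_nthRootsFinset (by omega : 0 < q + 1), pow_succ', ← hfrob]
      exact ha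
    intro a ha
    let f : {s : H // Commute s (g * k)} → R := fun s => ⟨mk s.1 s.2, hmem (mk s.1 s.2) (hmknorm s.1 s.2)⟩
    have hf : Function.Injective f := fun s t h =>
      Subtype.ext (hmkinj s.1 t.1 s.2 t.2 (congrArg Subtype.val h))
    have hle : Nat.card R ≤ Nat.card {s : H // Commute s (g * k)} := by
      rw [C.card_commute hg hk hnc htop, Nat.card_eq_finsetCard]
      simp only [R, Polynomial.nthRootsFinset_def]
      exact (Multiset.toFinset_card_le _).trans (Polynomial.card_nthRoots _ _)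
    obtain ⟨s, hs⟩ := (hf.bijective_of_nat_card_le hle).2 ⟨a, hmem a ha⟩
    exact ⟨s.1, s.2, congrArg Subtype.val hs⟩
  refine ⟨F, K, inferInstance, inferInstance, inferInstance, inferInstance, inferInstance, e, hfr,
    fun f => ⟨?_, ?_⟩⟩
  · rintro ⟨h, hf⟩
    rcases C.mirror_or_commute hg hk hnc htop h with hm | hc
    · have hc := C.mirror_mul_mirror hg hk hnc htop hm hg
      refine ⟨mk (h * g) hc, σ', (hnorm (mk (h * g) hc)).2 (hmknorm (h * g) hc), fun v => hev.1 ?_⟩
      rw [he, hf]
      show h • v = (h * g) • ev (σ (e v))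
      rw [← hσev, he, mul_smul, ← mul_smul g g, C.mirror_sq hg, one_smul]
    · refine ⟨mk h hc, 1, (hnorm (mk h hc)).2 (hmknorm h hc), fun v => hev.1 ?_⟩
      rw [he, hf]
      show h • v = h • ev (e v)
      rw [he]
  · rintro ⟨a, φ, ha, hf⟩
    obtain ⟨s, hs, rfl⟩ := hsurj a ((hnorm a).1 ha)
    rcases hgal φ with rfl | rfl
    · refine ⟨s, fun v => e.injective ?_⟩
      rw [hf]
      refine hev.1 ?_
      rw [he]
      show s • ev (e v) = s • v
      rw [he]
    · refine ⟨s * g, fun v => e.injective ?_⟩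
      rw [hf]
      refine hev.1 ?_
      rw [he]
      show s • ev (σ (e v)) = (s * g) • v
      rw [← hσev, he, mul_smul]

end Ctx

end Cfsg.Agent.Lib.BinaryAffine
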