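import Cfsg.Agent.Lib.BinaryAffine.Count

/-!
In odd characteristic no mirror outside a plane commutes with exactly one of its mirrors:
two such planes would make a polarity without absolute points.
-/

set_option autoImplicit false
set_option linter.unusedSectionVars false

namespace Cfsg.Agent.Lib.BinaryAffine

variable {V : Type*} [AddCommGroup V] {H : Type*} [Group H] [DistribMulAction H V]

theorem card_le_fx_inf [Finite V] (m : H) (S : AddSubgroup V) :
    Nat.card S ≤ Nat.card ↥(fx (V := V) m ⊓ S) * Nat.card (im (V := V) m) := by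
  let φ : S →+ V := (delta m).comp S.subtype
  have h := φ.ker.card_mul_index
  rw [AddSubgroup.index_ker] at h
  have hr : Nat.card φ.range ≤ Nat.card (im (V := V) m) :=
    AddSubgroup.card_le_of_le (by rintro _ ⟨x, rfl⟩; exact sub_mem_im m _)
  have hk : Nat.card φ.ker ≤ Nat.card ↥(fx (V := V) m ⊓ S) := by
    refine Nat.card_le_card_of_injective
      (fun x => ⟨(x.1 : V), mem_fx.2 (sub_eq_zero.1 (AddMonoidHom.mem_ker.1 x.2)), x.1.2⟩)
      fun x y e => ?_
    exact Subtype.ext (Subtype.ext (congrArg (fun z : ↥(fx (V := V) m ⊓ S) => (z : V)) e :))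
  exact h ▸ Nat.mul_le_mul hk hr

/-- A symmetric design with a polarity without absolute points does not exist. -/
theorem no_polarity {p : ℕ} (hp : p.Prime) {ι : Type*} [Fintype ι] [DecidableEq ι]
    (A : Matrix ι ι (ZMod p)) (hdiag : ∀ i, A i i = 0) (hrow : ∀ i, ∑ j, A i j = 1)
    (hsq : ∀ i j, (A * A) i j = 1) (hv : (Fintype.card ι : ZMod p) = 1) : False := by
  have : Fact p.Prime := ⟨hp⟩
  have hpow : ∀ n, ∀ i j, (A ^ (n + 2)) i j = 1 := by
    intro n
    induction n with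
    | zero => intro i j; rw [pow_two]; exact hsq i j
    | succ n ih =>
      intro i j
      rw [pow_succ', Matrix.mul_apply]
      simp_rw [ih, mul_one]
      exact hrow i
  obtain ⟨n, hn⟩ : ∃ n, p = n + 2 := ⟨p - 2, by have := hp.two_le; omega⟩
  have h := ZMod.trace_pow_card A
  rw [Matrix.trace, Matrix.trace] at h
  simp_rw [Matrix.diag_apply, hdiag, Finset.sum_const_zero] at h
  rw [zero_pow hp.ne_zero] at h
  have : ∑ i, (A ^ p) i i = 1 := by
    subst hn
    simp_rw [hpow n]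
    simpa using hv
  rw [this] at h
  exact one_ne_zero h

namespace Ctx

variable {p : ℕ} (C : Ctx p V H)
include C

theorem no_config_odd (hp : p ≠ 2) {g k : H} (hg : IsMirror g V) (hk : IsMirror k V)
    (hnc : ¬ Commute k g) {a : H} (ha : IsMirror a V) (hag : a ≠ g) (hcg : Commute a g)
    (hdisj : im (V := V) a ⊓ pl g k = ⊥)
    (hone : ∀ m, InPlane g k m V → Commute a m → m = g) : False := by
  classical
  have := C.finV; have := C.finH
  set q := Nat.card (im (V := V) g) with hq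
  have hq2 : 2 < q := by
    obtain ⟨t, ht⟩ := C.dvd_card_im hg
    have h1 := C.one_lt_card_im hg
    have h2 := C.prime.two_le
    rcases Nat.eq_zero_or_pos t with rfl | ht0
    · rw [mul_zero] at ht; omega
    · have : p * 1 ≤ p * t := Nat.mul_le_mul_left _ ht0
      rw [← ht] at this
      omega
  have hneg : ∀ {h : H}, IsMirror h V → ∀ {e : V}, e ∈ im h → h • e = e → e = 0 :=
    by
    intro h hh e he hfe
    exact C.eq_zero_of_add_self hp (add_eq_zero_iff_eq_neg.2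
      (hfe.symm.trans (C.smul_im hh he)))
  obtain ⟨y, hy, hy0⟩ := C.im_ne_bot hg
  obtain ⟨g1, hg1, hg1y⟩ := C.exists_fix hg hk hnc (AddSubgroup.mem_sup_left hy) hy0
  have hc1 : Commute g1 g := C.commute_of_fix hg hy hy0 hg1y
  have hg1g : g1 ≠ g := fun h => hy0 (hneg hg hy (h ▸ hg1y))
  have hag1 : ¬ Commute g1 a := fun h => hg1g (hone g1 hg1 h.symm)
  have hqa : Nat.card (im (V := V) a) = q :=
    (C.card_im_eq ha hg1.1 hag1).trans (C.card_im_of_ax_le hg hk hnc hg1.1 hg1.2.2).1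
  set P2 := pl (V := V) a g1 with hP2
  have hgax : im (V := V) g ≤ ax a g1 := fun e he =>
    ⟨mem_fx.2 (C.fix_im_of_commute hg ha hcg hag he),
      mem_fx.2 (C.fix_im_of_commute hg hg1.1 hc1 hg1g he)⟩
  have hgP2 : P2 ≤ fx g := sup_le
    (fun e he => mem_fx.2 (C.fix_im_of_commute ha hg hcg.symm (Ne.symm hag) he))
    (fun e he => mem_fx.2 (C.fix_im_of_commute hg1.1 hg hc1.symm (Ne.symm hg1g) he))
  obtain ⟨u, hu, hu0⟩ := C.im_ne_bot hg1.1
  obtain ⟨b, hb, hbu⟩ := C.exists_fix ha hg1.1 hag1 (AddSubgroup.mem_sup_right hu) hu0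
  set X := im (V := V) g ⊔ P2 with hX
  have hgP2' : im (V := V) g ⊓ P2 = ⊥ := eq_bot_iff.2 fun e he =>
    hneg hg he.1 (mem_fx.1 (hgP2 he.2))
  have hP2card : Nat.card P2 = q * q := by rw [hP2, C.card_pl ha hg1.1 hag1, hqa]
  have hXcard : Nat.card X = q * q * q := by
    rw [hX, card_sup_of_disjoint _ _ hgP2', hP2card, mul_assoc]
  have hpl : im (V := V) g ⊔ im g1 = pl g k :=
    AddSubgroup.eq_of_le_of_card_ge (sup_le le_sup_left hg1.2.1) (by
      rw [card_sup_of_disjoint _ _ (C.im_inf_im hg hg1.1 hg1g), C.card_pl hg hk hnc,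
        (C.card_im_of_ax_le hg hk hnc hg1.1 hg1.2.2).1])
  have hkP2 : ¬ im (V := V) k ≤ P2 := fun h => by
    obtain ⟨e, he, he0⟩ := C.im_ne_bot hk
    exact hnc (C.commute_of_fix hk he he0 (mem_fx.1 (hgP2 (h he)))).symm
  have pick : ∀ c' : H, ∃ c, InPlane a g1 c V ∧ c ≠ g1 ∧ c ≠ b ∧ c ≠ c' := by
    intro c'
    by_contra hcon
    push Not at hcon
    have h4 := C.card_members ha hg1.1 hag1
    rw [hqa] at h4
    have hfin : Nat.card {n // InPlane a g1 n V} ≤ Nat.card ↥({g1, b, c'} : Finset H) :=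
      Nat.card_le_card_of_injective (fun n => ⟨n.1, by
        by_cases e1 : n.1 = g1
        · simp [e1]
        by_cases e2 : n.1 = b
        · simp [e2]
        simp [hcon n.1 n.2 e1 e2]⟩) fun x z e => Subtype.ext (congrArg Subtype.val e :)
    rw [Nat.card_eq_finsetCard] at hfin
    have := Finset.card_le_three (a := g1) (b := b) (c := c')
    omega
  have hkc : ∀ c, InPlane a g1 c V → c ≠ g1 → c ≠ b → ¬ Commute c k := by
    intro c hc h1 h2 hcom
    have hck : c ≠ k := fun h => hkP2 (h ▸ hc.2.1)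
    have hfix : pl g k ≤ fx (V := V) c := sup_le (hgax.trans hc.2.2)
      fun e he => mem_fx.2 (C.fix_im_of_commute hk hc.1 hcom hck he)
    exact h2 (C.fix_unique ha hg1.1 hag1 hc hb (AddSubgroup.mem_sup_right hu) hu0
      (mem_fx.1 (hfix (hg1.2.1 hu))) hbu)
  have line : ∀ c', InPlane a g1 c' V → ∀ v ∈ im (V := V) g ⊔ im c', v ≠ 0 →
      ∃ n : H, IsMirror n V ∧ im (V := V) n ≤ im g ⊔ im c' ∧ Nat.card (im (V := V) n) = q ∧
        v ∈ im (V := V) n := by
    intro c' hc'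
    obtain ⟨c, hc, hcg1, hcb, hcc'⟩ := pick c'
    have hnkc := hkc c hc hcg1 hcb
    set Q := pl (V := V) k c with hQ
    set L := im (V := V) g ⊔ im c' with hL
    have hqk : Nat.card (im (V := V) k) = q := (C.card_im_eq hg hk hnc).symm
    have hQcard : Nat.card Q = q * q := by rw [hQ, C.card_pl hk hc.1 hnkc, hqk]
    have hQX : Q ≤ X := sup_le
      (le_sup_right.trans (hpl.ge.trans (sup_le le_sup_left
        (le_sup_right.trans (le_sup_right : P2 ≤ X))))) (hc.2.1.trans le_sup_right)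
    have hc'q : Nat.card (im (V := V) c') = q :=
      ((C.card_im_of_ax_le ha hg1.1 hag1 hc'.1 hc'.2.2).1).trans hqa
    have hcq : Nat.card (im (V := V) c) = q :=
      ((C.card_im_of_ax_le ha hg1.1 hag1 hc.1 hc.2.2).1).trans hqa
    have hgc' : im (V := V) g ⊓ im c' = ⊥ :=
      eq_bot_iff.2 ((inf_le_inf_left _ hc'.2.1).trans hgP2'.le)
    have hLcard : Nat.card L = q * q := by rw [hL, card_sup_of_disjoint _ _ hgc', hc'q]
    obtain ⟨v, hv, hv0⟩ := inf_ne_bot_of_card (A := Q) (B := L) (X := X) hQX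
      (sup_le_sup_left hc'.2.1 _) (by
        rw [hXcard, hQcard, hLcard]; nlinarith)
    obtain ⟨n, hn, hvn⟩ := C.root hk hc.1 hnkc hv.1 hv0
    obtain ⟨ε, hε, w, hw, hsum⟩ := AddSubgroup.mem_sup.1 hv.2
    have hQP2 : ∀ d ∈ Q, d ∈ P2 → d ∈ im (V := V) c := by
      intro d hdQ hdP
      by_contra hdc
      have hd0 : d ≠ 0 := fun h => hdc (h ▸ AddSubgroup.zero_mem _)
      obtain ⟨n1, hn1, hdn1⟩ := C.root hk hc.1 hnkc hdQ hd0
      obtain ⟨n2, hn2, hdn2⟩ := C.root ha hg1.1 hag1 hdP hd0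
      obtain rfl : n1 = n2 := C.mirror_eq hn1.1 hn2.1 hdn1 hdn2 hd0
      have hne : n1 ≠ c := fun h => hdc (h ▸ hdn1)
      have hsup : Nat.card ↥(im (V := V) c ⊔ im n1) = q * q := by
        rw [card_sup_of_disjoint _ _ (C.im_inf_im hc.1 hn1.1 hne), hcq,
          (C.card_im_of_ax_le hk hc.1 hnkc hn1.1 hn1.2.2).1, hqk]
      have e1 := AddSubgroup.eq_of_le_of_card_ge (sup_le le_sup_right hn1.2.1 :
        im (V := V) c ⊔ im n1 ≤ Q) (by rw [hsup, hQcard])
      exact hkP2 ((le_sup_left : im (V := V) k ≤ Q).trans (e1.ge.trans (sup_le hc.2.1 hn2.2.1)))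
    have hε0 : ε ≠ 0 := by
      intro h
      rw [h, zero_add] at hsum
      exact hcc' (C.mirror_eq hc.1 hc'.1 (hQP2 v hv.1 (hc'.2.1 (hsum ▸ hw))) (hsum ▸ hw) hv0)
    have hw0 : w ≠ 0 := by
      intro h
      rw [h, add_zero] at hsum
      obtain rfl : n = g := C.mirror_eq hn.1 hg hvn (hsum ▸ hε) hv0
      have e1 : pl (V := V) n k = Q := AddSubgroup.eq_of_le_of_card_ge (sup_le hn.2.1 le_sup_left)
        (by rw [hQcard, C.card_pl hg hk hnc])
      obtain ⟨d, hd, hd0⟩ := C.im_ne_bot hc.1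
      obtain ⟨m, hm, hdm⟩ := C.root hg hk hnc (e1.ge (AddSubgroup.mem_sup_right hd)) hd0
      obtain rfl : m = c := C.mirror_eq hm.1 hc.1 hdm hd hd0
      exact hcg1 (C.fix_unique hg hk hnc hm hg1 (AddSubgroup.mem_sup_left hy) hy0
        (mem_fx.1 (hc.2.2 (hgax hy))) hg1y)
    obtain ⟨u', hu', hu'0⟩ := C.im_ne_bot hc'.1
    obtain ⟨c'', hc'', hc''u⟩ := C.exists_fix ha hg1.1 hag1 (hc'.2.1 hu') hu'0
    have hLfx : L ≤ fx (V := V) c'' := sup_le (hgax.trans hc''.2.2)
      fun e he => mem_fx.2 (C.fix_im_of_fix hc'.1 hu' hu'0 hc''u he)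
    have hc''P : fx (V := V) c'' ⊓ P2 ≤ im c' := by
      have h := AddSubgroup.eq_of_le_of_card_ge
        (le_inf (le_sup_right.trans hLfx) hc'.2.1 : im (V := V) c' ≤ fx c'' ⊓ P2) (by
          rw [C.card_fx_pl ha hg1.1 hag1 hc'', hqa, hc'q])
      exact h.ge
    have hnL : im (V := V) n ≤ L := fun e he => by
      obtain ⟨ε', hε', π, hπ, rfl⟩ := AddSubgroup.mem_sup.1 (hQX (hn.2.1 he))
      have h := C.fix_im_of_fix hn.1 hvn hv0 (mem_fx.1 (hLfx hv.2)) he
      rw [smul_add, mem_fx.1 (hLfx (AddSubgroup.mem_sup_left hε')), add_right_inj] at h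
      exact AddSubgroup.add_mem_sup hε' (hc''P ⟨mem_fx.2 h, hπ⟩)
    have hng : n ≠ g := by
      rintro rfl
      have : w ∈ im (V := V) n ⊓ P2 := ⟨by
        have := (im (V := V) n).sub_mem hvn hε
        rwa [← hsum, add_sub_cancel_left] at this, hc'.2.1 hw⟩
      rw [hgP2', AddSubgroup.mem_bot] at this
      exact hw0 this
    have hnng : ¬ Commute n g := fun hcom => by
      have h := C.fix_im_of_commute hn.1 hg hcom.symm (Ne.symm hng) hvn
      rw [← hsum, smul_add, mem_fx.1 (hgP2 (hc'.2.1 hw)), add_left_inj] at h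
      exact hε0 (hneg hg hε h)
    have hplL : pl (V := V) g n = L := AddSubgroup.eq_of_le_of_card_ge (sup_le le_sup_left hnL)
      (by rw [hLcard, C.card_pl hg hn.1 hnng])
    intro d hd hd0
    obtain ⟨m, hm, hdm⟩ := C.root hg hn.1 hnng (hplL.ge hd) hd0
    exact ⟨m, hm.1, hm.2.1.trans hplL.le, (C.card_im_of_ax_le hg hn.1 hnng hm.1 hm.2.2).1, hdm⟩
  let Pr : H → Prop := fun n => IsMirror n V ∧ im (V := V) n ≤ X ∧ Nat.card (im (V := V) n) = q
  have hcov : ∀ v ∈ X, v ≠ 0 → ∃ n, Pr n ∧ v ∈ im (V := V) n := by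
    intro v hv hv0
    obtain ⟨ε, hε, π, hπ, rfl⟩ := AddSubgroup.mem_sup.1 hv
    by_cases hπ0 : π = 0
    · subst hπ0
      exact ⟨g, ⟨hg, le_sup_left, rfl⟩, by simpa using hε⟩
    obtain ⟨c', hc', hπc⟩ := C.root ha hg1.1 hag1 hπ hπ0
    obtain ⟨n, hn, hnle, hnq, hvn⟩ := line c' hc' _ (AddSubgroup.add_mem_sup hε hπc) hv0
    exact ⟨n, ⟨hn, hnle.trans (sup_le_sup_left hc'.2.1 _), hnq⟩, hvn⟩
  have hclosed : ∀ m, ∀ v ∈ fx (V := V) m ⊓ X, v ≠ 0 → ∀ n, Pr n → v ∈ im (V := V) n →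
      im (V := V) n ≤ fx m := fun m v hv hv0 n hn hvn e he =>
    mem_fx.2 (C.fix_im_of_fix hn.1 hvn hv0 (mem_fx.1 hv.1) he)
  have hsymm : ∀ m n, Pr m → Pr n → im (V := V) n ≤ fx m → m ≠ n ∧ im (V := V) m ≤ fx n := by
    intro m n hm hn hle
    obtain ⟨e, he, he0⟩ := C.im_ne_bot hn.1
    have hne : m ≠ n := by rintro rfl; exact he0 (hneg hm.1 he (mem_fx.1 (hle he)))
    have hcom := C.commute_of_fix hn.1 he he0 (mem_fx.1 (hle he))
    exact ⟨hne, fun d hd => mem_fx.2 (C.fix_im_of_commute hm.1 hn.1 hcom.symm (Ne.symm hne) hd)⟩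
  have hF : ∀ m, Pr m → Nat.card ↥(fx (V := V) m ⊓ X) = q * q := by
    intro m hm
    have h1 := card_le_fx_inf m X
    have h0 : im (V := V) m ⊓ (fx m ⊓ X) = ⊥ :=
      eq_bot_iff.2 fun e he => hneg hm.1 he.1 (mem_fx.1 he.2.1)
    have h2 := AddSubgroup.card_le_of_le (sup_le hm.2.1 inf_le_right : im (V := V) m ⊔ (fx m ⊓ X) ≤ X)
    rw [card_sup_of_disjoint _ _ h0, hm.2.2, hXcard] at h2
    rw [hm.2.2, hXcard] at h1
    refine le_antisymm (Nat.le_of_mul_le_mul_left ?_ (by omega : 0 < q))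
      (Nat.le_of_mul_le_mul_right h1 (by omega))
    rw [← mul_assoc]; exact h2
  have hK : ∀ m m', Pr m → Pr m' → m ≠ m' →
      Nat.card ↥(fx (V := V) m' ⊓ (fx m ⊓ X)) = q := by
    intro m m' hm hm' hne
    have h1 := card_le_fx_inf m' (fx (V := V) m ⊓ X)
    rw [hF m hm, hm'.2.2] at h1
    refine le_antisymm ?_ (Nat.le_of_mul_le_mul_right h1 (by omega))
    set K := fx (V := V) m' ⊓ (fx m ⊓ X) with hKdef
    by_cases hcom : Commute m' m
    · have h0 : im (V := V) m' ⊓ K = ⊥ :=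
        eq_bot_iff.2 fun e he => hneg hm'.1 he.1 (mem_fx.1 he.2.1)
      have h2 := AddSubgroup.card_le_of_le (sup_le (le_inf (fun e he => mem_fx.2
          (C.fix_im_of_commute hm'.1 hm.1 hcom.symm hne he)) hm'.2.1) inf_le_right :
        im (V := V) m' ⊔ K ≤ fx m ⊓ X)
      rw [card_sup_of_disjoint _ _ h0, hm'.2.2, hF m hm] at h2
      exact Nat.le_of_mul_le_mul_left h2 (by omega)
    · have h0 : pl (V := V) m m' ⊓ K = ⊥ := eq_bot_iff.2
        ((inf_le_inf_left _ (le_inf (inf_le_right.trans inf_le_left) inf_le_left)).trans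
          (C.pl_inf_ax hm.1 hm'.1 hcom).le)
      have h2 := AddSubgroup.card_le_of_le (sup_le (sup_le hm.2.1 hm'.2.1)
          (inf_le_right.trans inf_le_right) : pl (V := V) m m' ⊔ K ≤ X)
      rw [card_sup_of_disjoint _ _ h0, C.card_pl hm.1 hm'.1 hcom, hm.2.2, hXcard] at h2
      exact Nat.le_of_mul_le_mul_left h2 (by positivity)
  -- the incidence matrix
  let ι := {n : H // Pr n}
  have := Fintype.ofFinite ι
  have hcount : ∀ S : AddSubgroup V, S ≤ X →
      (∀ v ∈ S, v ≠ 0 → ∀ n, Pr n → v ∈ im (V := V) n → im (V := V) n ≤ S) →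
      Nat.card {n : ι // im (V := V) n.1 ≤ S} * (q - 1) = Nat.card S - 1 := by
    intro S hS hcl
    have h := C.card_roots (q := q) S (fun n => Pr n ∧ im (V := V) n ≤ S)
      (fun n hn => ⟨hn.1.1, hn.2, hn.1.2.2⟩) (fun v hv hv0 => by
        obtain ⟨n, hn, hvn⟩ := hcov v (hS hv) hv0
        exact ⟨n, ⟨hn, hcl v hv hv0 n hn hvn⟩, hvn⟩)
    rwa [← Nat.card_congr (Equiv.subtypeSubtypeEquivSubtypeInter Pr
      (fun n => im (V := V) n ≤ S))] at h
  have hpq : (q : ZMod p) = 0 := (ZMod.natCast_eq_zero_iff _ _).2 (C.dvd_card_im hg)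
  obtain ⟨r, hr⟩ : ∃ r, q = r + 2 := ⟨q - 2, by omega⟩
  have hN2 : ∀ m, Pr m → Nat.card {n : ι // im (V := V) n.1 ≤ fx m ⊓ X} = q + 1 := by
    intro m hm
    have h := hcount (fx m ⊓ X) inf_le_right fun v hv hv0 n hn hvn =>
      le_inf (hclosed m v hv hv0 n hn hvn) hn.2.1
    have e : q * q - 1 = (q + 1) * (q - 1) := by
      rw [hr, show r + 2 - 1 = r + 1 by omega,
        show (r + 2) * (r + 2) = (r + 2 + 1) * (r + 1) + 1 by ring]
      omega
    rw [hF m hm, e] at h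
    exact Nat.eq_of_mul_eq_mul_right (by omega) h
  have hN1 : ∀ m m', Pr m → Pr m' → m ≠ m' →
      Nat.card {n : ι // im (V := V) n.1 ≤ fx m' ⊓ (fx m ⊓ X)} = 1 := by
    intro m m' hm hm' hne
    have h := hcount (fx m' ⊓ (fx m ⊓ X)) (inf_le_right.trans inf_le_right)
      fun v hv hv0 n hn hvn => le_inf (hclosed m' v ⟨hv.1, hv.2.2⟩ hv0 n hn hvn)
        (le_inf (hclosed m v hv.2 hv0 n hn hvn) hn.2.1)
    rw [hK m m' hm hm' hne] at h
    exact Nat.eq_of_mul_eq_mul_right (show 0 < q - 1 by omega) (by rw [h, one_mul])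
  let A : Matrix ι ι (ZMod p) := Matrix.of fun m n => if im (V := V) n.1 ≤ fx m.1 then 1 else 0
  refine no_polarity C.prime A (fun m => ?_) (fun m => ?_) (fun m m' => ?_) ?_
  · simp only [A, Matrix.of_apply]
    rw [if_neg fun h => (hsymm _ _ m.2 m.2 h).1 rfl]
  · simp only [A, Matrix.of_apply, Finset.sum_boole, ← Fintype.card_subtype,
      ← Nat.card_eq_fintype_card]
    rw [Nat.card_congr (Equiv.subtypeEquivRight (q := fun n : ι => im (V := V) n.1 ≤ fx m.1 ⊓ X)
      fun n => ⟨fun h => le_inf h n.2.2.1, fun h => h.trans inf_le_left⟩), hN2 _ m.2]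
    simp [hpq]
  · simp only [Matrix.mul_apply, A, Matrix.of_apply, ite_mul, one_mul, zero_mul, ← ite_and,
      Finset.sum_boole, ← Fintype.card_subtype, ← Nat.card_eq_fintype_card]
    have e : ∀ n : ι, (im (V := V) n.1 ≤ fx m.1 ∧ im (V := V) m'.1 ≤ fx n.1) ↔
        im (V := V) n.1 ≤ fx m'.1 ⊓ (fx m.1 ⊓ X) := fun n =>
      ⟨fun h => le_inf (hsymm _ _ n.2 m'.2 h.2).2 (le_inf h.1 n.2.2.1),
        fun h => ⟨h.trans (inf_le_right.trans inf_le_left),
          (hsymm _ _ m'.2 n.2 (h.trans inf_le_left)).2⟩⟩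
    rw [Nat.card_congr (Equiv.subtypeEquivRight e)]
    by_cases hmm : m = m'
    · subst hmm
      rw [Nat.card_congr (Equiv.subtypeEquivRight
        (q := fun n : ι => im (V := V) n.1 ≤ fx m.1 ⊓ X) fun n => by
          rw [show fx (V := V) m.1 ⊓ (fx m.1 ⊓ X) = fx m.1 ⊓ X by rw [← inf_assoc, inf_idem]]),
        hN2 _ m.2]
      simp [hpq]
    · rw [hN1 _ _ m.2 m'.2 fun h => hmm (Subtype.ext h), Nat.cast_one]
  · have h := C.card_roots (q := q) X Pr (fun n hn => hn) hcov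
    rw [hXcard] at h
    have e : q * q * q - 1 = (q * q + q + 1) * (q - 1) := by
      rw [hr, show r + 2 - 1 = r + 1 by omega, show (r + 2) * (r + 2) * (r + 2) =
        ((r + 2) * (r + 2) + (r + 2) + 1) * (r + 1) + 1 by ring]
      omega
    rw [e] at h
    rw [← Nat.card_eq_fintype_card, Nat.eq_of_mul_eq_mul_right (show 0 < q - 1 by omega) h]
    simp [hpq]

end Ctx

end Cfsg.Agent.Lib.BinaryAffine
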