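import Cfsg.Agent.Lib.BinaryAffine.UniqueTwo
import Cfsg.Agent.Lib.BinaryAffine.UniqueOdd

/-!
An irreducible binary linear group is `±1` in prime order or is generated by one plane.
-/

set_option autoImplicit false
set_option linter.unusedSectionVars false

namespace Cfsg.Agent.Lib.BinaryAffine

variable {V : Type*} [AddCommGroup V] {H : Type*} [Group H] [DistribMulAction H V]

namespace Ctx

variable {p : ℕ} (C : Ctx p V H)
include C

theorem mem_plane {g k : H} (hg : IsMirror g V) (hk : IsMirror k V) (hnc : ¬ Commute k g)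
    {a : H} (ha : IsMirror a V) {c : H} (hc : InPlane g k c V) (hac : ¬ Commute a c) :
    InPlane g k a V := by
  have := C.finV
  by_contra hnot
  set q := Nat.card (im (V := V) g) with hq
  have hdisj : im (V := V) a ⊓ pl g k = ⊥ := eq_bot_iff.2 fun d hd => by
    by_contra hd0
    have hd0' : d ≠ 0 := fun h => hd0 (h ▸ AddSubgroup.zero_mem _)
    obtain ⟨m, hm, hdm⟩ := C.root hg hk hnc hd.2 hd0'
    exact hnot (C.mirror_eq hm.1 ha hdm hd.1 hd0' ▸ hm)
  have hqa : Nat.card (im (V := V) a) = q :=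
    (C.card_im_eq ha hc.1 fun h => hac h.symm).trans (C.card_im_of_ax_le hg hk hnc hc.1 hc.2.2).1
  have h1 := card_le_fx_inf a (pl (V := V) g k)
  rw [C.card_pl hg hk hnc, hqa] at h1
  have hq1 : 1 < q := C.one_lt_card_im hg
  obtain ⟨v, hv, hv0⟩ := exists_ne_zero (S := fx (V := V) a ⊓ pl g k)
    (lt_of_lt_of_le hq1 (Nat.le_of_mul_le_mul_right h1 (by omega)))
  obtain ⟨c0, hc0, hvc⟩ := C.root hg hk hnc hv.2 hv0
  have hcom : Commute a c0 := C.commute_of_fix hc0.1 hvc hv0 (mem_fx.1 hv.1)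
  have hne : a ≠ c0 := fun h => hnot (h ▸ hc0)
  have hone : ∀ m, InPlane g k m V → Commute a m → m = c0 := by
    intro m hm ham
    by_contra hmc
    have hle : im (V := V) c0 ⊔ im m ≤ fx a := sup_le
      (fun e he => mem_fx.2 (C.fix_im_of_commute hc0.1 ha hcom hne he))
      (fun e he => mem_fx.2 (C.fix_im_of_commute hm.1 ha ham (fun h => hnot (h ▸ hm)) he))
    have heq : im (V := V) c0 ⊔ im m = pl g k :=
      AddSubgroup.eq_of_le_of_card_ge (sup_le hc0.2.1 hm.2.1) (by
        rw [card_sup_of_disjoint _ _ (C.im_inf_im hc0.1 hm.1 hmc), C.card_pl hg hk hnc,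
          (C.card_im_of_ax_le hg hk hnc hc0.1 hc0.2.2).1, (C.card_im_of_ax_le hg hk hnc hm.1 hm.2.2).1])
    obtain ⟨e, he, he0⟩ := C.im_ne_bot hc.1
    exact hac (C.commute_of_fix hc.1 he he0 (mem_fx.1 (hle (heq.ge (hc.2.1 he)))))
  obtain ⟨k0, hk0, hnc0⟩ := C.exists_noncommute hg hk hnc hc0
  obtain ⟨e1, e2⟩ := C.pl_change hg hk hnc hc0 hk0 hnc0
  have hone' : ∀ m, InPlane c0 k0 m V → Commute a m → m = c0 := fun m hm =>
    hone m ⟨hm.1, hm.2.1.trans e1.le, e2.ge.trans hm.2.2⟩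
  rw [← e1] at hdisj
  by_cases hp : p = 2
  · exact C.no_config_two hp hc0.1 hk0.1 hnc0 ha hne hcom hdisj hone'
  · exact C.no_config_odd hp hc0.1 hk0.1 hnc0 ha hne hcom hdisj hone'

variable (hirr : ∀ S : AddSubgroup V, (∀ h : H, ∀ x ∈ S, h • x ∈ S) → S = ⊥ ∨ S = ⊤)
include hirr

/-- The sum of an invariant family of commutator spaces is everything. -/
theorem closure_eq_top (s : Set V) (hs : ∀ h : H, ∀ x ∈ s, h • x ∈ s) {x : V} (hx : x ∈ s)
    (hx0 : x ≠ 0) : AddSubgroup.closure s = ⊤ := by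
  refine (hirr _ fun h y hy => ?_).resolve_left fun h => hx0 ?_
  · have : AddSubgroup.closure s ≤ (AddSubgroup.closure s).comap (DistribSMul.toAddMonoidHom V h) :=
      (AddSubgroup.closure_le _).2 fun z hz => AddSubgroup.subset_closure (hs h z hz)
    exact this hy
  · have := AddSubgroup.subset_closure (k := s) hx
    rwa [h, SetLike.mem_coe, AddSubgroup.mem_bot] at this

theorem prime_case (hno : ∀ h : H, h ≠ 1 → fx (V := V) h = ⊥) [Nontrivial V] :
    (Nat.card V).Prime ∧ Nat.card H ≤ 2 := by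
  have := C.finV; have := C.finH
  have hneg : ∀ h : H, h ≠ 1 → ∀ x : V, h • x = -x := by
    intro h h1 x
    by_cases hx : x = 0
    · rw [hx, smul_zero, neg_zero]
    set d := h • x - x with hd
    have hmove : h • x = x + d := by rw [hd]; abel
    obtain ⟨m, m1, m2, -⟩ := C.exists_move d ⟨h, x, hmove⟩
    have hd0 : d ≠ 0 := fun h0 => hx (by
      have : x ∈ fx (V := V) h := mem_fx.2 (by rw [hmove, h0, add_zero])
      rwa [hno h h1, AddSubgroup.mem_bot] at this)
    have hm := m1 h x hmove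
    have : x + x + d ∈ fx (V := V) m := mem_fx.2 (by rw [smul_add, smul_add, hm, m2]; abel)
    rw [hno m (C.move_ne_one hd0 hm), AddSubgroup.mem_bot] at this
    rw [hmove]
    exact eq_neg_of_add_eq_zero_left (by rw [← this]; abel)
  refine ⟨?_, ?_⟩
  · obtain ⟨x, hx⟩ := exists_ne (0 : V)
    have htop : AddSubgroup.zmultiples x = ⊤ := by
      refine (hirr _ fun h y hy => ?_).resolve_left fun h => hx (AddSubgroup.zmultiples_eq_bot.1 h)
      by_cases h1 : h = 1
      · rwa [h1, one_smul]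
      · rw [hneg h h1]; exact (AddSubgroup.zmultiples x).neg_mem hy
    have : Fact p.Prime := ⟨C.prime⟩
    rw [← AddSubgroup.card_top (G := V), ← htop, Nat.card_zmultiples,
      addOrderOf_eq_prime (C.exp x) hx]
    exact C.prime
  · by_contra hcon
    push Not at hcon
    have := Fintype.ofFinite H
    rw [Nat.card_eq_fintype_card] at hcon
    obtain ⟨a, b, c, hab, hac, hbc⟩ := Fintype.two_lt_card_iff.1 hcon
    have hu : ∀ u v : H, u ≠ 1 → v ≠ 1 → u = v := fun u v hu hv =>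
      C.ext fun x => by rw [hneg u hu, hneg v hv]
    by_cases ha : a = 1
    · exact hbc (hu b c (fun h => hab (ha.trans h.symm)) (fun h => hac (ha.trans h.symm)))
    by_cases hb : b = 1
    · exact hac (hu a c ha (fun h => hbc (hb.trans h.symm)))
    exact hab (hu a b ha hb)

theorem exists_noncommuting {g : H} (hg : IsMirror g V) :
    ∃ a k : H, IsMirror a V ∧ IsMirror k V ∧ ¬ Commute k a := by
  by_contra hall
  push Not at hall
  have := C.finV; have := C.finH
  obtain ⟨ε, hε, hε0⟩ := C.im_ne_bot hg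
  by_cases hp : p = 2
  · have htop := C.closure_eq_top hirr {x | ∃ m : H, IsMirror m V ∧ x ∈ im (V := V) m}
      (fun h x ⟨m, hm, hx⟩ => ⟨h * m * h⁻¹, C.mirror_conj hm h, smul_mem_im_conj hx⟩)
      (x := ε) ⟨g, hg, hε⟩ hε0
    refine hg.1 (C.faithful g fun x => mem_fx.1 ?_)
    have : AddSubgroup.closure {x | ∃ m : H, IsMirror m V ∧ x ∈ im (V := V) m} ≤ fx g :=
      (AddSubgroup.closure_le _).2 fun x ⟨m, hm, hx⟩ =>
        mem_fx.2 (C.fix_im_two hp hm (hall m g hm hg) hx)
    exact this (htop ▸ AddSubgroup.mem_top x)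
  by_cases hconj : ∀ h : H, h * g * h⁻¹ = g
  · have htop : im (V := V) g = ⊤ := by
      refine (hirr _ fun h x hx => ?_).resolve_left fun h => hε0 (by
        rwa [h, AddSubgroup.mem_bot] at hε)
      have := smul_mem_im_conj (h := h) hx
      rwa [hconj h] at this
    refine hg.2.1 (eq_bot_iff.2 fun x hx => ?_)
    have h2 := C.smul_im hg (htop ▸ AddSubgroup.mem_top x : x ∈ im (V := V) g)
    rw [mem_fx.1 hx] at h2
    exact C.eq_zero_of_add_self hp (add_eq_zero_iff_eq_neg.2 h2)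
  push Not at hconj
  obtain ⟨h, hh⟩ := hconj
  set k := h * g * h⁻¹ with hk
  have hkm : IsMirror k V := C.mirror_conj hg h
  set η := h • ε with hη
  have hηim : η ∈ im (V := V) k := smul_mem_im_conj hε
  have gη : g • η = η := C.fix_im_of_commute hkm hg (hall k g hkm hg) (Ne.symm hh) hηim
  have kε : k • ε = ε := C.fix_im_of_commute hg hkm (hall g k hg hkm) hh hε
  set d := η + η - (ε + ε) with hd
  have hmove1 : (g * k) • (ε - η) = (ε - η) + d := by
    rw [mul_smul, smul_sub k, kε, C.smul_im hkm hηim, sub_neg_eq_add, smul_add, C.smul_im hg hε, gη,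
      hd]
    abel
  have hmove2 : h • (ε + ε) = (ε + ε) + d := by rw [smul_add, ← hη, hd]; abel
  have hd0 : d ≠ 0 := fun h0 => by
    have h2 : (η - ε) + (η - ε) = 0 := by rw [← h0, hd]; abel
    have h3 : η = ε := sub_eq_zero.1 (C.eq_zero_of_add_self hp h2)
    exact hh (C.mirror_eq hkm hg (h3 ▸ hηim) hε hε0)
  obtain ⟨m, m1, -, m3⟩ := C.exists_move d ⟨h, _, hmove2⟩
  have e1 := m1 _ _ hmove1
  have e2 := m1 _ _ hmove2
  have hw : m • (ε + η) = ε + η := by
    rw [show ε + η = (ε + ε) - (ε - η) by abel, smul_sub, e1, e2]; abel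
  have hle : fx (V := V) g ⊓ fx k ≤ fx m := le_trans (fun x hx => by
    rw [mem_fx, mul_smul, mem_fx.1 hx.2, mem_fx.1 hx.1]) (m3 _ _ hmove1)
  have hw0 : ε + η ≠ 0 := fun h0 => hε0 (by
    have h2 := congrArg (fun x => k • x) h0
    simp only [smul_add, kε, C.smul_im hkm hηim, smul_zero] at h2
    refine C.eq_zero_of_add_self hp ?_
    rw [show ε + ε = (ε + η) + (ε + -η) by abel, h0, h2, add_zero])
  obtain ⟨b, hb, hmb⟩ := exists_mirror (V := V) (C.move_ne_one hd0 e2) fun h0 => hw0 (by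
    have := mem_fx.2 hw; rwa [h0, AddSubgroup.mem_bot] at this)
  have hbw := mem_fx.1 (hmb (mem_fx.2 hw))
  by_cases hbg : b = g
  · rw [hbg, smul_add, C.smul_im hg hε, gη, add_left_inj] at hbw
    exact hε0 (C.eq_zero_of_add_self hp (add_eq_zero_iff_eq_neg.2 hbw.symm))
  by_cases hbk : b = k
  · rw [hbk, smul_add, C.smul_im hkm hηim, kε, add_right_inj] at hbw
    have := C.eq_zero_of_add_self hp (add_eq_zero_iff_eq_neg.2 hbw.symm)
    exact hε0 ((smul_eq_zero_iff_eq h).1 this)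
  obtain ⟨e, he, he0⟩ := C.im_ne_bot hb
  have h2 := mem_fx.1 (hmb (hle
    ⟨mem_fx.2 (C.fix_im_of_commute hb hg (hall b g hb hg) (Ne.symm hbg) he),
      mem_fx.2 (C.fix_im_of_commute hb hkm (hall b k hb hkm) (Ne.symm hbk) he)⟩))
  rw [C.smul_im hb he] at h2
  exact he0 (C.eq_zero_of_add_self hp (add_eq_zero_iff_eq_neg.2 h2.symm))

theorem pl_eq_top {g k : H} (hg : IsMirror g V) (hk : IsMirror k V) (hnc : ¬ Commute k g) :
    pl (V := V) g k = ⊤ := by
  have := C.finV; have := C.finH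
  have hconj : ∀ h : H, InPlane g k (h * g * h⁻¹) V := by
    intro h
    by_contra hnot
    set a := h * g * h⁻¹ with ha'
    have ha : IsMirror a V := C.mirror_conj hg h
    have hall : ∀ c, InPlane g k c V → Commute a c := fun c hc =>
      by_contra fun hac => hnot (C.mem_plane hg hk hnc ha hc hac)
    have hne : ∀ c, InPlane g k c V → a ≠ c := fun c hc e => hnot (e ▸ hc)
    have hgp := C.inPlane_left hg hk hnc
    have hkp := C.inPlane_right hg hk hnc
    have hafix : pl g k ≤ fx (V := V) a := sup_le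
      (fun e he => mem_fx.2 (C.fix_im_of_commute hg ha (hall g hgp) (hne g hgp) he))
      (fun e he => mem_fx.2 (C.fix_im_of_commute hk ha (hall k hkp) (hne k hkp) he))
    obtain ⟨ε, hε, hε0⟩ := C.im_ne_bot hg
    set η := h • ε with hη
    have hηim : η ∈ im (V := V) a := smul_mem_im_conj hε
    have gη : g • η = η :=
      C.fix_im_of_commute ha hg (hall g hgp).symm (Ne.symm (hne g hgp)) hηim
    obtain ⟨x1, hx1⟩ := mem_im.1 ((im g).neg_mem hε)
    obtain ⟨y1, hy1, z1, hz1, rfl⟩ := C.decompose hg hk hnc x1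
    have hy1' : g • y1 = y1 + -ε := by
      rw [smul_add, mem_fx.1 hz1.1, add_right_comm] at hx1
      exact add_right_cancel hx1
    obtain ⟨x2, hx2⟩ := mem_im.1 hηim
    obtain ⟨y2, hy2, z2, hz2, rfl⟩ := C.decompose hg hk hnc x2
    have hz2' : a • z2 = z2 + η := by
      rw [smul_add, mem_fx.1 (hafix hy2), add_assoc] at hx2
      exact add_left_cancel hx2
    have hmove : (g * a) • (y1 + z2) = (y1 + z2) + (η - ε) := by
      rw [mul_smul, smul_add a, mem_fx.1 (hafix hy1), hz2', smul_add g, smul_add g, hy1',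
        mem_fx.1 hz2.1, gη]
      abel
    have hmove2 : h • ε = ε + (η - ε) := by rw [← hη]; abel
    obtain ⟨m, m1, -, m3⟩ := C.exists_move (η - ε) ⟨h, ε, hmove2⟩
    have hmε : m • ε = η := (m1 h ε hmove2).trans (by abel)
    have hq : 1 < Nat.card ↥(fx (V := V) g ⊓ pl g k) := by
      rw [C.card_fx_pl hg hk hnc hgp]; exact C.one_lt_card_im hg
    obtain ⟨u, hu, hu0⟩ := exists_ne_zero hq
    obtain ⟨c, hc, huc⟩ := C.root hg hk hnc hu.2 hu0
    have hmu : m • u = u := mem_fx.1 (m3 _ _ hmove (by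
      rw [mem_fx, mul_smul, mem_fx.1 (hafix hu.2), mem_fx.1 hu.1]))
    have hmc := C.commute_of_fix hc.1 huc hu0 hmu
    obtain ⟨n, hn, hncn⟩ := C.exists_noncommute hg hk hnc hc
    have hn' : InPlane g k (m * n * m⁻¹) V := by
      refine C.mem_plane hg hk hnc (C.mirror_conj hn.1 m) hc fun hcom => hncn ?_
      have hce : m * c * m⁻¹ = c := mul_inv_eq_iff_eq_mul.2 hmc
      rw [← hce] at hcom
      have := hcom.map (MulAut.conj m⁻¹).toMonoidHom
      simpa [MulAut.conj_apply, mul_assoc] using this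
    obtain ⟨e1, -⟩ := C.pl_change hg hk hnc hc hn hncn
    obtain ⟨α, hα, β, hβ, hsum⟩ := AddSubgroup.mem_sup.1
      (e1.ge (AddSubgroup.mem_sup_left hε) : ε ∈ pl (V := V) c n)
    have hηpl : η ∈ pl (V := V) g k := by
      rw [← hmε, ← hsum, smul_add, C.fix_im_of_fix hc.1 huc hu0 hmu hα]
      exact AddSubgroup.add_mem _ (hc.2.1 hα) (hn'.2.1 (smul_mem_im_conj hβ))
    have hη0 : η ≠ 0 := fun h0 => hε0 ((smul_eq_zero_iff_eq h).1 h0)
    obtain ⟨r, hr, hηr⟩ := C.root hg hk hnc hηpl hη0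
    exact hnot (C.mirror_eq hr.1 ha hηr hηim hη0 ▸ hr)
  obtain ⟨ε, hε, hε0⟩ := C.im_ne_bot hg
  have htop := C.closure_eq_top hirr {x | ∃ h : H, x ∈ im (V := V) (h * g * h⁻¹)}
    (fun h x ⟨l, hx⟩ => ⟨h * l, by
      have := smul_mem_im_conj (h := h) hx
      rwa [show h * (l * g * l⁻¹) * h⁻¹ = h * l * g * (h * l)⁻¹ by group] at this⟩)
    (x := ε) ⟨1, by simpa using hε⟩ hε0
  refine eq_top_iff.2 (htop.ge.trans ((AddSubgroup.closure_le _).2 ?_))
  rintro x ⟨h, hx⟩
  exact (hconj h).2.1 hx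

end Ctx

end Cfsg.Agent.Lib.BinaryAffine
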