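import Cfsg.Agent.Lib.BinaryAffine.Field
import Cfsg.Agent.Lib.Perm.Basic

/-!
Binary primitive affine permutation groups.
-/

set_option autoImplicit false
set_option linter.unusedSectionVars false

namespace Cfsg.Agent.Lib.BinaryAffine

open MulAction

/-- A normal elementary abelian regular subgroup of exponent `p`. -/
theorem exists_exp_subgroup {G Ω : Type*} [Group G] [Finite G] [MulAction G Ω] [FaithfulSMul G Ω]
    [IsPreprimitive G Ω] {N : Subgroup G} (hN : N.Normal) (hN1 : N ≠ ⊥)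
    (hc : IsMulCommutative N) :
    ∃ (p : ℕ) (M : Subgroup G), p.Prime ∧ M.Normal ∧ M ≠ ⊥ ∧ IsMulCommutative M ∧
      (∀ n ∈ M, n ^ p = 1) ∧ IsPretransitive M Ω ∧ ∀ a : Ω, stabilizer M a = ⊥ := by
  have hcard : Nat.card N ≠ 1 := fun h => hN1 (Subgroup.card_eq_one.1 h)
  obtain ⟨p, hp, hdvd⟩ := Nat.exists_prime_and_dvd hcard
  have : Fact p.Prime := ⟨hp⟩
  obtain ⟨x, hx⟩ := exists_prime_orderOf_dvd_card' p hdvd
  let M : Subgroup G :=
    { carrier := {n | n ∈ N ∧ n ^ p = 1}
      one_mem' := ⟨N.one_mem, one_pow p⟩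
      mul_mem' := fun {a b} ha hb => ⟨N.mul_mem ha.1 hb.1, by
        rw [Commute.mul_pow (congrArg Subtype.val (hc.is_comm.comm ⟨a, ha.1⟩ ⟨b, hb.1⟩)), ha.2, hb.2,
          one_mul]⟩
      inv_mem' := fun {a} ha => ⟨N.inv_mem ha.1, by rw [inv_pow, ha.2, inv_one]⟩ }
  have hMn : M.Normal := ⟨fun n hn g => ⟨hN.conj_mem n hn.1 g, by rw [conj_pow, hn.2, mul_one,
    mul_inv_cancel]⟩⟩
  have hMc : IsMulCommutative M :=
    IsMulCommutative.of_comm fun a b => Subtype.ext
      (congrArg Subtype.val (hc.is_comm.comm ⟨a.1, a.2.1⟩ ⟨b.1, b.2.1⟩) :)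
  have hM1 : M ≠ ⊥ := fun h => by
    have : (x : G) ∈ M := ⟨x.2, by
      have := pow_orderOf_eq_one x
      rw [hx] at this
      exact_mod_cast congrArg Subtype.val this⟩
    rw [h, Subgroup.mem_bot] at this
    rw [show x = 1 from Subtype.ext this, orderOf_one] at hx
    exact hp.ne_one hx.symm
  have := Perm.normal_isPretransitive_of_ne_bot (X := Ω) M hM1
  exact ⟨p, M, hp, hMn, hM1, hMc, fun n hn => hn.2, this,
    fun a => Perm.stabilizer_eq_bot_of_comm_transitive M a⟩

theorem classify {G Ω : Type*} [Group G] [Finite G] [MulAction G Ω] [FaithfulSMul G Ω]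
    [Fintype Ω] (hprim : MulAction.IsPreprimitive G Ω)
    (haff : ∃ N : Subgroup G, N.Normal ∧ N ≠ ⊥ ∧ IsMulCommutative ↥N)
    (hbin : ∀ (n : ℕ) (I J : Fin n → Ω), 2 ≤ n →
      (∀ i j : Fin n, i ≠ j → ∃ g : G, g • I i = J i ∧ g • I j = J j) → ∃ g : G, ∀ i, g • I i = J i) :
    ((Fintype.card Ω).Prime ∧ ∀ ω : Ω, Nat.card ↥(MulAction.stabilizer G ω) ≤ 2) ∨
    (∃ (F E : Type) (_ : Field F) (_ : Fintype F) (_ : Field E) (_ : Fintype E) (_ : Algebra F E) (e : Ω ≃ E),
        Module.finrank F E = 2 ∧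
        ∀ σ : Equiv.Perm Ω, σ ∈ (MulAction.toPermHom G Ω).range ↔
          ∃ (a b : E) (φ : E ≃ₐ[F] E), Algebra.norm F a = 1 ∧ ∀ ω : Ω, e (σ ω) = a * φ (e ω) + b) := by
  classical
  obtain ⟨N0, hN0, hN01, hN0c⟩ := haff
  obtain ⟨p, N, hp, hNn, hN1, hNc, hexp, hNt, hreg⟩ := exists_exp_subgroup (Ω := Ω) hN0 hN01 hN0c
  obtain ⟨n0, hn0, ω0, hω0⟩ := Perm.exists_moved_of_ne_bot (X := Ω) hN1
  let _ : CommGroup N := { (inferInstance : Group N) with mul_comm := fun a b => hNc.is_comm.comm a b }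
  let V : Type := Shrink.{0} (Additive N)
  let _ : AddCommGroup V := inferInstanceAs (AddCommGroup (Shrink.{0} (Additive N)))
  let ψ : V ≃+ Additive N := Shrink.addEquiv
  let nv : V → G := fun v => ((Additive.toMul (ψ v) : N) : G)
  have nv_mem : ∀ v, nv v ∈ N := fun v => (Additive.toMul (ψ v) : N).2
  have nv_add : ∀ v w, nv (v + w) = nv v * nv w := fun v w => by simp [nv]
  have nv_zero : nv 0 = 1 := by simp [nv]
  have nv_inj : Function.Injective nv := fun v w h =>
    ψ.injective (Additive.toMul.injective (Subtype.ext h))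
  have nv_surj : ∀ n ∈ N, ∃ v, nv v = n := fun n hn =>
    ⟨ψ.symm (Additive.ofMul ⟨n, hn⟩), by simp [nv]⟩
  let pt : V → Ω := fun v => nv v • ω0
  have pt_bij : Function.Bijective pt := by
    refine ⟨fun v w h => nv_inj ?_, fun ω => ?_⟩
    · have h1 := Perm.stabilizer_subgroup_eq_bot_iff.1 (hreg ω0) ((nv w)⁻¹ * nv v)
        (N.mul_mem (N.inv_mem (nv_mem w)) (nv_mem v))
        (by rw [mul_smul, inv_smul_eq_iff]; exact h)
      exact (inv_mul_eq_one.1 h1).symm
    · obtain ⟨n, hn, hne⟩ := Perm.exists_mem_smul_eq N ω0 ω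
      obtain ⟨v, rfl⟩ := nv_surj n hn
      exact ⟨v, hne⟩
  let e0 : V ≃ Ω := Equiv.ofBijective pt pt_bij
  let H := stabilizer G ω0
  let act : H → V → V := fun h v =>
    ψ.symm (Additive.ofMul ⟨(h : G) * nv v * (h : G)⁻¹, hNn.conj_mem _ (nv_mem v) _⟩)
  have nv_act : ∀ h v, nv (act h v) = (h : G) * nv v * (h : G)⁻¹ := fun h v => by simp [nv, act]
  let _ : DistribMulAction H V :=
    { smul := act
      one_smul := fun v => nv_inj (by
        show nv (act 1 v) = nv v
        rw [nv_act]; simp)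
      mul_smul := fun a b v => nv_inj (by
        show nv (act (a * b) v) = nv (act a (act b v))
        rw [nv_act, nv_act, nv_act, Subgroup.coe_mul]; group)
      smul_zero := fun a => nv_inj (by
        show nv (act a 0) = nv 0
        rw [nv_act, nv_zero]; group)
      smul_add := fun a v w => nv_inj (by
        show nv (act a (v + w)) = nv (act a v + act a w)
        rw [nv_act, nv_add, nv_add, nv_act, nv_act]; group) }
  have nv_smul : ∀ (h : H) (v : V), nv (h • v) = (h : G) * nv v * (h : G)⁻¹ := nv_act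
  have hpt : ∀ (h : H) (v : V), (h : G) • pt v = pt (h • v) := fun h v => by
    show (h : G) • nv v • ω0 = nv (h • v) • ω0
    rw [nv_smul, mul_smul, mul_smul, inv_smul_eq_iff.2 (show ω0 = (h : G) • ω0 from h.2.symm)]
  have hptn : ∀ v w : V, nv w • pt v = pt (v + w) := fun v w => by
    show nv w • nv v • ω0 = nv (v + w) • ω0
    rw [add_comm, nv_add, mul_smul]
  have hfin : Finite V := Finite.of_equiv Ω e0.symm
  have hfaith : ∀ h : H, (∀ v : V, h • v = v) → h = 1 := fun h hh => by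
    refine Subtype.ext (FaithfulSMul.eq_of_smul_eq_smul (α := Ω) fun ω => ?_)
    obtain ⟨v, rfl⟩ := pt_bij.2 ω
    rw [hpt, hh, Subgroup.coe_one, one_smul]
  have hVexp : ∀ v : V, p • v = 0 := fun v => nv_inj (by
    have : nv (p • v) = nv v ^ p := by simp [nv]
    rw [this, hexp _ (nv_mem v), nv_zero])
  have hbinV : IsBinary V H := by
    intro s f hs hd
    let X : Set V := insert 0 s
    let f' : V → V := fun x => if x = 0 then 0 else f x
    have hff : ∀ x ∈ s, f' x = f x := fun x hx => by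
      by_cases hx0 : x = 0
      · obtain ⟨h, hh⟩ := hs x hx
        rw [hx0, smul_zero] at hh
        simp [f', hx0, ← hh]
      · simp [f', hx0]
    have hpair : ∀ x ∈ X, ∀ y ∈ X, ∃ g : G, g • pt x = pt (f' x) ∧ g • pt y = pt (f' y) := by
      intro x hx y hy
      have hex : ∃ h : H, h • (x - y) = f' x - f' y := by
        by_cases hy0 : y = 0
        · by_cases hx0 : x = 0
          · exact ⟨1, by simp [f', hx0, hy0]⟩
          · have hxs : x ∈ s := (Set.mem_insert_iff.1 hx).resolve_left hx0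
            obtain ⟨h, hh⟩ := hs x hxs
            exact ⟨h, by simp [f', hx0, hy0, hh]⟩
        · have hys : y ∈ s := (Set.mem_insert_iff.1 hy).resolve_left hy0
          by_cases hx0 : x = 0
          · obtain ⟨h, hh⟩ := hs y hys
            exact ⟨h, by simp [f', hx0, hy0, hh]⟩
          · have hxs : x ∈ s := (Set.mem_insert_iff.1 hx).resolve_left hx0
            rw [hff x hxs, hff y hys]
            exact hd x hxs y hys
      obtain ⟨h, hh⟩ := hex
      refine ⟨nv (f' y - h • y) * (h : G), ?_, ?_⟩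
      · rw [mul_smul, hpt, hptn]
        congr 1
        rw [smul_sub, sub_eq_iff_eq_add] at hh
        rw [hh]; abel
      · rw [mul_smul, hpt, hptn]
        congr 1
        abel
    have : Fintype X := Fintype.ofFinite X
    let ι := Option (Option X)
    let val : ι → V := fun i => i.elim 0 fun j => j.elim 0 Subtype.val
    have hval : ∀ i, val i ∈ X := by
      rintro (_ | _ | x)
      · exact Set.mem_insert _ _
      · exact Set.mem_insert _ _
      · exact x.2
    let en : Fin (Fintype.card ι) ≃ ι := (Fintype.equivFin ι).symm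
    obtain ⟨g, hg⟩ := hbin (Fintype.card ι) (fun i => pt (val (en i)))
      (fun i => pt (f' (val (en i)))) (by simp [ι, Fintype.card_option])
      (fun i j _ => hpair _ (hval _) _ (hval _))
    have hg' : ∀ i : ι, g • pt (val i) = pt (f' (val i)) := fun i => by
      have := hg (en.symm i)
      simpa only [Equiv.apply_symm_apply] using this
    have hg0 : g ∈ H := by
      show g • ω0 = ω0
      have := hg' none
      simpa [val, f', pt, nv_zero] using this
    refine ⟨⟨g, hg0⟩, fun x hx => pt_bij.1 ?_⟩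
    have h1 := hg' (some (some ⟨x, Set.mem_insert_of_mem _ hx⟩))
    simp only [val, Option.elim] at h1
    rw [← hpt, ← hff x hx]
    exact h1
  have C : Ctx p V H := ⟨hp, hVexp, hbinV, hfaith, hfin, inferInstance⟩
  have hcov : ∀ g : G, ∃ (w : V) (h : H), g = nv w * (h : G) := fun g => by
    obtain ⟨w, hw⟩ := pt_bij.2 (g • ω0)
    refine ⟨w, ⟨(nv w)⁻¹ * g, ?_⟩, (mul_inv_cancel_left _ _).symm⟩
    show ((nv w)⁻¹ * g) • ω0 = ω0
    rw [mul_smul, inv_smul_eq_iff]
    exact hw.symm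
  have hirr : ∀ S : AddSubgroup V, (∀ h : H, ∀ x ∈ S, h • x ∈ S) → S = ⊥ ∨ S = ⊤ := by
    intro S hS
    let U : Subgroup G :=
      { carrier := nv '' S
        one_mem' := ⟨0, S.zero_mem, nv_zero⟩
        mul_mem' := by
          rintro _ _ ⟨a, ha, rfl⟩ ⟨b, hb, rfl⟩
          exact ⟨a + b, S.add_mem ha hb, nv_add a b⟩
        inv_mem' := by
          rintro _ ⟨a, ha, rfl⟩
          refine ⟨-a, S.neg_mem ha, ?_⟩
          rw [eq_inv_iff_mul_eq_one, ← nv_add, neg_add_cancel, nv_zero] }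
    by_cases hU : U = ⊥
    · left
      rw [AddSubgroup.eq_bot_iff_forall]
      intro x hx
      have : nv x ∈ U := ⟨x, hx, rfl⟩
      rw [hU, Subgroup.mem_bot, ← nv_zero] at this
      exact nv_inj this
    right
    have : U.Normal := ⟨by
      rintro _ ⟨a, ha, rfl⟩ g
      obtain ⟨w, h, rfl⟩ := hcov g
      refine ⟨h • a, hS h a ha, ?_⟩
      rw [show nv w * (h : G) * nv a * (nv w * (h : G))⁻¹ =
        nv w * ((h : G) * nv a * (h : G)⁻¹) * (nv w)⁻¹ by group, ← nv_smul, ← nv_add, add_comm,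
        nv_add, mul_inv_cancel_right]⟩
    have := Perm.normal_isPretransitive_of_ne_bot (X := Ω) U hU
    refine eq_top_iff.2 fun x _ => ?_
    obtain ⟨_, ⟨a, ha, rfl⟩, hne⟩ := Perm.exists_mem_smul_eq U ω0 (pt x)
    exact pt_bij.1 hne ▸ ha
  have hΩ : Fintype.card Ω = Nat.card V := by
    rw [← Nat.card_eq_fintype_card, Nat.card_congr e0]
  have : Nontrivial V := by
    obtain ⟨v, hv⟩ := nv_surj n0 hn0
    refine ⟨⟨v, 0, fun h => hω0 ?_⟩⟩
    rw [← hv, h, nv_zero, one_smul]
  by_cases hno : ∀ h : H, h ≠ 1 → fx (V := V) h = ⊥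
  · obtain ⟨h1, h2⟩ := C.prime_case hirr hno
    refine Or.inl ⟨hΩ ▸ h1, fun ω => ?_⟩
    have : Nat.card (stabilizer G ω) = Nat.card H := by
      have e1 := index_stabilizer_of_transitive G ω
      have e2 := index_stabilizer_of_transitive G ω0
      have c1 := (stabilizer G ω).card_mul_index
      have c2 := (stabilizer G ω0).card_mul_index
      rw [e1] at c1
      rw [e2, ← c1] at c2
      have : 0 < Nat.card Ω := by
        have : Nonempty Ω := ⟨ω⟩
        exact Nat.card_pos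
      exact (Nat.eq_of_mul_eq_mul_right this c2).symm
    omega
  push Not at hno
  obtain ⟨h, h1, h0⟩ := hno
  obtain ⟨g, hg, -⟩ := exists_mirror (V := V) h1 h0
  obtain ⟨a, k, ha, hk, hnc⟩ := C.exists_noncommuting hirr hg
  obtain ⟨F, E, iF, iFF, iE, iEF, iA, eV, hfr, hiff⟩ :=
    C.field_model ha hk hnc (C.pl_eq_top hirr ha hk hnc) hirr
  let e : Ω ≃ E := e0.symm.trans eV.toEquiv
  have he : ∀ v, e (pt v) = eV v := fun v => by
    show eV (e0.symm (e0 v)) = eV v
    rw [Equiv.symm_apply_apply]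
  refine Or.inr ⟨F, E, iF, iFF, iE, iEF, iA, e, hfr, fun σ => ⟨?_, ?_⟩⟩
  · rintro ⟨g', rfl⟩
    obtain ⟨w, h', rfl⟩ := hcov g'
    obtain ⟨c, φ, hc, hφ⟩ := (hiff fun v => h' • v).1 ⟨h', fun v => rfl⟩
    refine ⟨c, eV w, φ, hc, fun ω => ?_⟩
    obtain ⟨v, rfl⟩ := pt_bij.2 ω
    rw [toPermHom_apply, toPerm_apply, mul_smul, hpt, hptn, he, he, map_add, hφ]
  · rintro ⟨c, b, φ, hc, hσ⟩
    obtain ⟨h', hh⟩ := (hiff fun v => eV.symm (c * φ (eV v))).2
      ⟨c, φ, hc, fun v => eV.apply_symm_apply _⟩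
    refine ⟨nv (eV.symm b) * (h' : G), Equiv.ext fun ω => ?_⟩
    obtain ⟨v, rfl⟩ := pt_bij.2 ω
    refine e.injective ?_
    rw [toPermHom_apply, toPerm_apply, mul_smul, hpt, hptn, he, hσ, he, map_add, ← hh,
      AddEquiv.apply_symm_apply, AddEquiv.apply_symm_apply]

end Cfsg.Agent.Lib.BinaryAffine
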