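import Cfsg.Agent.Lib.BinaryAffine.Basic

/-!
Two non-commuting mirrors span a plane, completely covered by the mirrors of the plane.
-/

set_option autoImplicit false
set_option linter.unusedSectionVars false

namespace Cfsg.Agent.Lib.BinaryAffine

variable {V : Type*} [AddCommGroup V] {H : Type*} [Group H] [DistribMulAction H V]

/-- The plane of two mirrors. -/
def pl (g k : H) : AddSubgroup V := im g ⊔ im k

/-- The axis of two mirrors. -/
def ax (g k : H) : AddSubgroup V := fx g ⊓ fx k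

/-- Membership in the plane of `g` and `k`. -/
def InPlane (g k a : H) (V : Type*) [AddCommGroup V] [DistribMulAction H V] : Prop :=
  IsMirror a V ∧ im (V := V) a ≤ pl g k ∧ ax (V := V) g k ≤ fx a

/-- Subgroups with trivial intersection add their orders. -/
theorem card_sup_of_disjoint (A B : AddSubgroup V) (h : A ⊓ B = ⊥) :
    Nat.card ↥(A ⊔ B) = Nat.card A * Nat.card B := by
  rw [← Nat.card_prod]
  refine (Nat.card_congr (Equiv.ofBijective
    (fun x : A × B => (⟨(x.1 : V) + x.2, (A ⊔ B).add_mem (AddSubgroup.mem_sup_left x.1.2)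
      (AddSubgroup.mem_sup_right x.2.2)⟩ : ↥(A ⊔ B))) ⟨?_, ?_⟩)).symm
  · rintro ⟨a, b⟩ ⟨a', b'⟩ e
    have e' : (a : V) + b = a' + b' := congrArg Subtype.val e
    have h1 : (a : V) - a' = b' - b := sub_eq_sub_iff_add_eq_add.2 (e'.trans (add_comm _ _))
    have h2 : (a : V) - a' ∈ A ⊓ B := ⟨A.sub_mem a.2 a'.2, h1 ▸ B.sub_mem b'.2 b.2⟩
    rw [h, AddSubgroup.mem_bot] at h2
    rw [h2] at h1
    exact Prod.ext (Subtype.ext (sub_eq_zero.1 h2)) (Subtype.ext (sub_eq_zero.1 h1.symm).symm)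
  · rintro ⟨x, hx⟩
    obtain ⟨a, ha, b, hb, rfl⟩ := AddSubgroup.mem_sup.1 hx
    exact ⟨(⟨a, ha⟩, ⟨b, hb⟩), rfl⟩

namespace Ctx

variable {p : ℕ} (C : Ctx p V H)
include C

theorem mirror_of_fx_eq {a l : H} (ha : IsMirror a V) (hl : l ≠ 1)
    (he : fx (V := V) l = fx a) : IsMirror l V :=
  ⟨hl, he ▸ ha.2.1, fun h hh hle => (ha.2.2 h hh (he ▸ hle)).trans he.symm⟩

variable {g k : H} (hg : IsMirror g V) (hk : IsMirror k V) (hnc : ¬ Commute k g)
include hg hk hnc

omit hk in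
theorem eq_zero_of_fixed {e : V} (he : e ∈ im g) (hke : k • e = e) : e = 0 := by
  by_contra h0
  exact hnc (C.commute_of_fix hg he h0 hke)

theorem card_im_eq : Nat.card (im (V := V) g) = Nat.card (im (V := V) k) := by
  have := C.finV
  have aux : ∀ {g k : H}, IsMirror g V → ¬ Commute k g →
      Nat.card (im (V := V) g) ≤ Nat.card (im (V := V) k) := fun {g k} hg hnc => by
    refine Nat.card_le_card_of_injective
      (fun e => (⟨k • (e : V) - e, sub_mem_im k _⟩ : im (V := V) k)) fun e f hef => ?_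
    have h : k • (e : V) - e = k • (f : V) - f := congrArg Subtype.val hef
    refine Subtype.ext (sub_eq_zero.1 (C.eq_zero_of_fixed hg hnc ((im g).sub_mem e.2 f.2) ?_))
    rw [smul_sub]
    exact sub_eq_sub_iff_sub_eq_sub.1 h
  exact le_antisymm (aux hg hnc) (aux hk fun h => hnc h.symm)

theorem exists_delta {b : V} (hb : b ∈ im k) : ∃ e ∈ im (V := V) g, k • e - e = b := by
  have := C.finV
  have hinj : Function.Injective
      (fun e => (⟨k • (e : V) - e, sub_mem_im k _⟩ : im (V := V) k) : im (V := V) g → _) := by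
    intro e f hef
    have h : k • (e : V) - e = k • (f : V) - f := congrArg Subtype.val hef
    refine Subtype.ext (sub_eq_zero.1 (C.eq_zero_of_fixed hg hnc ((im g).sub_mem e.2 f.2) ?_))
    rw [smul_sub]
    exact sub_eq_sub_iff_sub_eq_sub.1 h
  obtain ⟨e, he⟩ := (hinj.bijective_of_nat_card_le (C.card_im_eq hg hk hnc).ge).2 ⟨b, hb⟩
  exact ⟨e, e.2, congrArg Subtype.val he⟩

omit hk hnc in
theorem im_inf_im {a : H} (ha : IsMirror a V) (hne : a ≠ g) : im (V := V) g ⊓ im a = ⊥ := by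
  rw [eq_bot_iff]
  intro x hx
  by_contra h
  exact hne (C.mirror_eq ha hg hx.2 hx.1 (fun h0 => h (by rw [h0]; exact AddSubgroup.zero_mem _)))

omit hg hk in
theorem ne_of_not_commute : k ≠ g := fun h => hnc (h ▸ Commute.refl k)

theorem fx_mul : fx (V := V) (g * k) = ax g k := by
  refine le_antisymm (fun x hx => ?_) (fun x hx => ?_)
  · rw [mem_fx, mul_smul] at hx
    have h1 : k • x = g • x := by
      have := congrArg (fun y => g • y) hx
      simpa only [← mul_smul, C.mirror_sq hg, ← mul_assoc, one_mul] using this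
    have h2 : k • x - x ∈ im (V := V) g ⊓ im k := ⟨h1 ▸ sub_mem_im g x, sub_mem_im k x⟩
    rw [C.im_inf_im hg hk (C.ne_of_not_commute hnc), AddSubgroup.mem_bot, sub_eq_zero] at h2
    exact ⟨mem_fx.2 (h1 ▸ h2), mem_fx.2 h2⟩
  · rw [mem_fx, mul_smul, mem_fx.1 hx.2, mem_fx.1 hx.1]

theorem pl_inf_ax : pl (V := V) g k ⊓ ax g k = ⊥ := by
  rw [eq_bot_iff]
  rintro v ⟨hv, hvg, hvk⟩
  obtain ⟨e, he, f, hf, rfl⟩ := AddSubgroup.mem_sup.1 hv
  have eg : g • f = e + e + f := by
    have := mem_fx.1 hvg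
    rw [smul_add, C.smul_im hg he, neg_add_eq_iff_eq_add] at this
    rw [this]; abel
  have ek : k • e = e + f + f := by
    have := mem_fx.1 hvk
    rw [smul_add, C.smul_im hk hf, ← sub_eq_add_neg, sub_eq_iff_eq_add] at this
    rw [this]
  rw [AddSubgroup.mem_bot]
  by_cases hp : p = 2
  · have he0 : e = 0 := C.eq_zero_of_fixed hg hnc he (by
      rw [ek, add_assoc]; nth_rw 2 [← C.neg_eq_self hp f]; rw [add_neg_cancel, add_zero])
    have hf0 : f = 0 := C.eq_zero_of_fixed hk (fun h => hnc h.symm) hf (by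
      rw [eg, he0]; simp)
    rw [he0, hf0, add_zero]
  · set d := e + f + (e + f) with hd
    have hmove : (g * k) • e = e + d := by
      rw [mul_smul, ek, smul_add, smul_add, C.smul_im hg he, eg, hd]; abel
    obtain ⟨h, -, hn, hfx⟩ := C.exists_move d ⟨_, _, hmove⟩
    have hv' : e + f ∈ fx (V := V) (g * k) := by
      rw [C.fx_mul hg hk hnc]; exact ⟨hvg, hvk⟩
    have := mem_fx.1 (hfx _ _ hmove hv')
    have h4 : d + d = 0 := by
      rw [hd, smul_add h, this] at hn
      rw [hd]; exact add_eq_zero_iff_eq_neg.2 hn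
    exact C.eq_zero_of_add_self hp (C.eq_zero_of_add_self hp h4)

theorem card_pl : Nat.card (pl (V := V) g k) = Nat.card (im (V := V) g) * Nat.card (im (V := V) g) := by
  rw [pl, card_sup_of_disjoint _ _ (C.im_inf_im hg hk (C.ne_of_not_commute hnc)), ← C.card_im_eq hg hk hnc]

/-- The pair of commutator maps. -/
theorem card_ax_mul : Nat.card (ax (V := V) g k) *
    (Nat.card (im (V := V) g) * Nat.card (im (V := V) g)) = Nat.card V ∧
    pl (V := V) g k ⊔ ax g k = ⊤ := by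
  have := C.finV
  let Φ : V →+ V × V := (delta g).prod (delta k)
  have hker : Φ.ker = ax g k := by
    ext x; simp [Φ, ax, mem_fx, sub_eq_zero]
  have hrange : Φ.range ≤ (im g).prod (im k) := by
    rintro _ ⟨x, rfl⟩; exact ⟨sub_mem_im g x, sub_mem_im k x⟩
  have hle : Nat.card Φ.range ≤ Nat.card (im (V := V) g) * Nat.card (im (V := V) g) := by
    refine (AddSubgroup.card_le_of_le hrange).trans ?_
    rw [Nat.card_congr (AddSubgroup.prodEquiv _ _).toEquiv, Nat.card_prod, ← C.card_im_eq hg hk hnc]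
  have h1 := Φ.ker.card_mul_index
  rw [AddSubgroup.index_ker, hker] at h1
  have h2 := card_sup_of_disjoint _ _ (C.pl_inf_ax hg hk hnc)
  rw [C.card_pl hg hk hnc] at h2
  have h3 : Nat.card ↥(pl (V := V) g k ⊔ ax g k) ≤ Nat.card V :=
    Nat.card_le_card_of_injective _ Subtype.val_injective
  have h4 : Nat.card V ≤ Nat.card (ax (V := V) g k) *
      (Nat.card (im (V := V) g) * Nat.card (im (V := V) g)) := h1 ▸ Nat.mul_le_mul_left _ hle
  rw [h2, mul_comm] at h3
  refine ⟨le_antisymm h3 h4, AddSubgroup.eq_top_of_le_card _ ?_⟩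
  rw [h2, mul_comm]; exact h4

theorem decompose (x : V) : ∃ y ∈ pl (V := V) g k, ∃ z ∈ ax (V := V) g k, y + z = x :=
  AddSubgroup.mem_sup.1 (((C.card_ax_mul hg hk hnc).2).symm ▸ AddSubgroup.mem_top x)

theorem im_mul : im (V := V) (g * k) = pl g k := by
  have := C.finV
  have hle : im (V := V) (g * k) ≤ pl g k := by
    rintro _ ⟨x, rfl⟩
    rw [delta_apply, mul_smul, show g • k • x - x = (g • k • x - k • x) + (k • x - x) by abel]
    exact AddSubgroup.add_mem_sup (sub_mem_im g _) (sub_mem_im k x)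
  refine AddSubgroup.eq_of_le_of_card_ge hle ?_
  have h := card_im_mul_card_fx (V := V) (g * k)
  rw [C.fx_mul hg hk hnc, ← (C.card_ax_mul hg hk hnc).1, mul_comm] at h
  rw [C.card_pl hg hk hnc, Nat.eq_of_mul_eq_mul_left Nat.card_pos h]

/-- A mirror containing the axis fails to commute with one of the two. -/
theorem not_commute_of_ax_le {a : H} (ha : IsMirror a V) (hax : ax g k ≤ fx (V := V) a) :
    ¬ Commute a g ∨ ¬ Commute a k := by
  by_contra hcon
  push Not at hcon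
  obtain ⟨h1, h2⟩ := hcon
  have n1 : a ≠ g := fun h => hnc (h ▸ h2.symm)
  have n2 : a ≠ k := fun h => hnc (h ▸ h1)
  refine ha.1 (C.faithful a fun x => ?_)
  obtain ⟨y, hy, z, hz, rfl⟩ := C.decompose hg hk hnc x
  obtain ⟨e, he, f, hf, rfl⟩ := AddSubgroup.mem_sup.1 hy
  rw [smul_add, smul_add, C.fix_im_of_commute hg ha h1 n1 he, C.fix_im_of_commute hk ha h2 n2 hf,
    mem_fx.1 (hax hz)]

theorem card_im_of_ax_le {a : H} (ha : IsMirror a V) (hax : ax g k ≤ fx (V := V) a) :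
    Nat.card (im (V := V) a) = Nat.card (im (V := V) g) ∧ im (V := V) a ⊓ ax g k = ⊥ := by
  rcases C.not_commute_of_ax_le hg hk hnc ha hax with h | h
  · refine ⟨C.card_im_eq ha hg (fun h' => h h'.symm), ?_⟩
    rw [eq_bot_iff]
    exact fun e he => C.eq_zero_of_fixed ha (fun h' => h h'.symm) he.1 (mem_fx.1 he.2.1)
  · refine ⟨(C.card_im_eq ha hk (fun h' => h h'.symm)).trans (C.card_im_eq hg hk hnc).symm, ?_⟩
    rw [eq_bot_iff]
    exact fun e he => C.eq_zero_of_fixed ha (fun h' => h h'.symm) he.1 (mem_fx.1 he.2.2)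

theorem card_fx_of_ax_le {a : H} (ha : IsMirror a V) (hax : ax g k ≤ fx (V := V) a) :
    Nat.card (fx (V := V) a) = Nat.card (ax (V := V) g k) * Nat.card (im (V := V) g) := by
  have := C.finV
  have h := card_im_mul_card_fx (V := V) a
  rw [(C.card_im_of_ax_le hg hk hnc ha hax).1, ← (C.card_ax_mul hg hk hnc).1] at h
  have h0 : 0 < Nat.card (im (V := V) g) := Nat.card_pos
  nlinarith

theorem fx_inf_fx {a b : H} (ha : IsMirror a V) (hb : IsMirror b V) (hab : ¬ Commute b a)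
    (hax : ax g k ≤ fx (V := V) a) (hbx : ax g k ≤ fx (V := V) b) : ax (V := V) a b = ax g k := by
  have := C.finV
  refine (AddSubgroup.eq_of_le_of_card_ge (le_inf hax hbx) ?_).symm
  have h := (C.card_ax_mul ha hb hab).1
  rw [(C.card_im_of_ax_le hg hk hnc ha hax).1, ← (C.card_ax_mul hg hk hnc).1] at h
  exact (Nat.eq_of_mul_eq_mul_right (Nat.mul_pos Nat.card_pos Nat.card_pos) h).le

theorem commute_of_fix_two {a b : H} (ha : IsMirror a V) (hb : IsMirror b V)
    (hax : ax g k ≤ fx (V := V) a) (hbx : ax g k ≤ fx (V := V) b) {x : V} (hx : x ∉ ax g k)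
    (h1 : a • x = x) (h2 : b • x = x) : Commute b a := by
  by_contra hab
  exact hx ((C.fx_inf_fx hg hk hnc ha hb hab hax hbx) ▸ ⟨mem_fx.2 h1, mem_fx.2 h2⟩)

theorem unique_odd (hp : p ≠ 2) {a b : H} (ha : IsMirror a V) (hb : IsMirror b V)
    (hax : ax g k ≤ fx (V := V) a) (hbx : ax g k ≤ fx (V := V) b) {x : V} (hx : x ∉ ax g k)
    (h1 : a • x = x) (h2 : b • x = x) : a = b := by
  have := C.finV
  by_contra hne
  have hc := C.commute_of_fix_two hg hk hnc ha hb hax hbx hx h1 h2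
  have hle : ax g k ⊔ im b ≤ fx (V := V) a :=
    sup_le hax fun e he => mem_fx.2 (C.fix_im_of_commute hb ha hc.symm hne he)
  have heq : ax g k ⊔ im b = fx (V := V) a := AddSubgroup.eq_of_le_of_card_ge hle (by
    rw [card_sup_of_disjoint _ _ (by rw [inf_comm]; exact (C.card_im_of_ax_le hg hk hnc hb hbx).2),
      (C.card_im_of_ax_le hg hk hnc hb hbx).1, C.card_fx_of_ax_le hg hk hnc ha hax])
  obtain ⟨z, hz, e, he, hxe⟩ := AddSubgroup.mem_sup.1 (heq.symm ▸ mem_fx.2 h1 : x ∈ ax g k ⊔ im b)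
  rw [← hxe, smul_add, mem_fx.1 (hbx hz), C.smul_im hb he, add_left_cancel_iff] at h2
  have he0 := C.eq_zero_of_add_self hp (add_eq_zero_iff_eq_neg.2 h2.symm)
  rw [he0, add_zero] at hxe
  exact hx (hxe ▸ hz)

theorem fx_eq_two (hp : p = 2) {a : H} (ha : IsMirror a V) (hax : ax g k ≤ fx (V := V) a) :
    ax g k ⊔ im a = fx (V := V) a := by
  have := C.finV
  refine AddSubgroup.eq_of_le_of_card_ge (sup_le hax fun e he => mem_fx.2 ?_) ?_
  · rw [C.smul_im ha he, C.neg_eq_self hp]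
  · rw [card_sup_of_disjoint _ _ (by rw [inf_comm]; exact (C.card_im_of_ax_le hg hk hnc ha hax).2),
      (C.card_im_of_ax_le hg hk hnc ha hax).1, C.card_fx_of_ax_le hg hk hnc ha hax]

/-- Anything fixing the axis and a point off it is a mirror. -/
theorem fix_mirror {l : H} (hl : l ≠ 1) (hlax : ax g k ≤ fx (V := V) l) {x : V}
    (hx : x ∉ ax g k) (hlx : l • x = x) : IsMirror l V := by
  have := C.finV; have := C.finH
  have hx0 : x ≠ 0 := fun h => hx (h ▸ AddSubgroup.zero_mem _)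
  obtain ⟨a, ha, hla⟩ := exists_mirror (V := V) hl (fun h => hx0 (by
    have := mem_fx.2 hlx; rwa [h, AddSubgroup.mem_bot] at this))
  have hax := hlax.trans hla
  have hax' : a • x = x := mem_fx.1 (hla (mem_fx.2 hlx))
  by_cases hp : p = 2
  · obtain ⟨z, hz, e, he, hxe⟩ := AddSubgroup.mem_sup.1
      ((C.fx_eq_two hg hk hnc hp ha hax).symm ▸ mem_fx.2 hax' : x ∈ ax g k ⊔ im a)
    have he0 : e ≠ 0 := fun h => hx (by rw [← hxe, h, add_zero]; exact hz)
    have hle : l • e = e := by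
      have := hlx
      rw [← hxe, smul_add, mem_fx.1 (hlax hz)] at this
      exact add_left_cancel this
    refine C.mirror_of_fx_eq ha hl (le_antisymm hla ?_)
    rw [← C.fx_eq_two hg hk hnc hp ha hax]
    exact sup_le hlax fun f hf => mem_fx.2 (C.fix_im_of_fix ha he he0 hle hf)
  · have hbx : ax g k ≤ fx (V := V) (l * a * l⁻¹) := fun z hz => by
      rw [mem_fx, mul_smul, mul_smul]
      have h1 : l⁻¹ • z = z := by rw [inv_smul_eq_iff, mem_fx.1 (hlax hz)]
      rw [h1, mem_fx.1 (hax hz), mem_fx.1 (hlax hz)]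
    have hconj : l * a * l⁻¹ = a := C.unique_odd hg hk hnc hp (C.mirror_conj ha l) ha hbx hax hx
      (by rw [mul_smul, mul_smul, inv_smul_eq_iff.2 hlx.symm, hax', hlx]) hax'
    have hc : Commute l a := mul_inv_eq_iff_eq_mul.1 hconj
    obtain ⟨e, he, he0⟩ := C.im_ne_bot ha
    have aux : ∀ m : H, m ≠ 1 → ax g k ≤ fx (V := V) m → m • x = x → m • e ≠ e := by
      intro m hm hmax hmx hme
      obtain ⟨b, hb, hmb⟩ := exists_mirror (V := V) hm (fun h => hx0 (by
        have := mem_fx.2 hmx; rwa [h, AddSubgroup.mem_bot] at this))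
      have := C.unique_odd hg hk hnc hp hb ha (hmax.trans hmb) hax hx
        (mem_fx.1 (hmb (mem_fx.2 hmx))) hax'
      subst this
      have h' := mem_fx.1 (hmb (mem_fx.2 hme))
      rw [C.smul_im ha he] at h'
      exact he0 (C.eq_zero_of_add_self hp (add_eq_zero_iff_eq_neg.2 h'.symm))
    have hne : l • e ≠ e := aux l hl hlax hlx
    have hm := (C.mirror_move ha ((im a).sub_mem (smul_mem_im_of_commute hc he) he)
      (sub_ne_zero.2 hne)).2 l e (by abel)
    have hla1 : a⁻¹ * l = 1 := by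
      by_contra h
      refine aux _ h (fun z hz => ?_) ?_ ?_
      · rw [mem_fx, mul_smul, mem_fx.1 (hlax hz), inv_smul_eq_iff, mem_fx.1 (hax hz)]
      · rw [mul_smul, hlx, inv_smul_eq_iff, hax']
      · rw [mul_smul, inv_smul_eq_iff, hm]; abel
    exact inv_mul_eq_one.1 hla1 ▸ ha

theorem no_neg {y : V} (hy : y ∈ pl g k) (hneg : (g * k) • y = -y) : y = 0 := by
  by_cases hp : p = 2
  · rw [C.neg_eq_self hp] at hneg
    have : y ∈ pl (V := V) g k ⊓ fx (g * k) := ⟨hy, mem_fx.2 hneg⟩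
    rwa [C.fx_mul hg hk hnc, C.pl_inf_ax hg hk hnc, AddSubgroup.mem_bot] at this
  have h1 : k • y = -(g • y) := by
    have := congrArg (fun v => g • v) hneg
    simpa only [smul_neg, ← mul_smul, ← mul_assoc, C.mirror_sq hg, one_mul] using this
  have h2 : k • g • y = -y := by
    have := congrArg (fun v => k • v) h1
    rw [smul_neg, ← mul_smul, C.mirror_sq hk, one_smul] at this
    exact (neg_eq_iff_eq_neg.2 this).symm
  have h3 : y - g • y ∈ im (V := V) g := by
    have := (im g).neg_mem (sub_mem_im g y)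
    rwa [neg_sub] at this
  have h4 := C.eq_zero_of_fixed hg hnc h3 (by rw [smul_sub, h1, h2]; abel)
  rw [sub_eq_zero] at h4
  rw [← h4] at h1
  have h5 : y ∈ im (V := V) k := C.mem_of_add_self hp _ (by
    have := (im k).neg_mem (sub_mem_im k y)
    rw [h1] at this
    simpa [neg_sub, sub_neg_eq_add] using this)
  exact C.eq_zero_of_fixed hk (fun h => hnc h.symm) h5 h4.symm

theorem smul_pl {m : H} (hm : m * (g * k) * m⁻¹ = (g * k)⁻¹) {y : V} (hy : y ∈ pl g k) :
    m • y ∈ pl (V := V) g k := by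
  rw [← C.im_mul hg hk hnc] at hy ⊢
  have := smul_mem_im_conj (h := m) hy
  rw [hm] at this
  obtain ⟨x, hx⟩ := mem_im.1 this
  have h2 := sub_mem_im (g * k) ((g * k)⁻¹ • x)
  rw [smul_inv_smul, hx] at h2
  simpa using (im _).neg_mem h2

theorem inPlane_of_inverts {m : H} (hm : IsMirror m V) (hmax : ax g k ≤ fx (V := V) m)
    (hinv : m * (g * k) * m⁻¹ = (g * k)⁻¹) : InPlane g k m V := by
  refine ⟨hm, ?_, hmax⟩
  rintro _ ⟨x, rfl⟩
  obtain ⟨y, hy, z, hz, rfl⟩ := C.decompose hg hk hnc x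
  rw [delta_apply, smul_add, mem_fx.1 (hmax hz), add_sub_add_right_eq_sub]
  exact (pl g k).sub_mem (C.smul_pl hg hk hnc hinv hy) hy

/-- The mirror moving `y` as `g * k` does, and the one fixing `y`. -/
theorem cover {y : V} (hy : y ∈ pl g k) (hy0 : y ≠ 0) :
    ∃ h m : H, InPlane g k h V ∧ InPlane g k m V ∧ (g * k) • y - y ∈ im (V := V) h ∧ m • y = y ∧
      m * (g * k) * m⁻¹ = (g * k)⁻¹ := by
  set r := g * k with hr
  set d := r • y - y with hd
  have hmove : r • y = y + d := by rw [hd]; abel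
  obtain ⟨h, h1, h2, h3⟩ := C.exists_move d ⟨r, y, hmove⟩
  have hy' := h1 r y hmove
  have hax : ax g k ≤ fx (V := V) h := by
    rw [← C.fx_mul hg hk hnc]; exact h3 r y hmove
  have hd0 : d ≠ 0 := by
    intro h0
    rw [h0, add_zero] at hmove
    have : y ∈ pl (V := V) g k ⊓ fx r := ⟨hy, mem_fx.2 hmove⟩
    rw [C.fx_mul hg hk hnc, C.pl_inf_ax hg hk hnc, AddSubgroup.mem_bot] at this
    exact hy0 this
  have hhy : h • r • y = y := by rw [hmove, smul_add, hy', h2]; abel
  have hry : r • y ∈ pl (V := V) g k := by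
    rw [hmove]
    exact (pl g k).add_mem hy (C.im_mul hg hk hnc ▸ sub_mem_im r y)
  have hw : y + r • y ∉ ax (V := V) g k := fun hw => by
    have : y + r • y ∈ pl (V := V) g k ⊓ ax g k := ⟨(pl g k).add_mem hy hry, hw⟩
    rw [C.pl_inf_ax hg hk hnc, AddSubgroup.mem_bot] at this
    exact hy0 (C.no_neg hg hk hnc hy (eq_neg_of_add_eq_zero_right this))
  have hmir : IsMirror h V := C.fix_mirror hg hk hnc (C.move_ne_one hd0 hy') hax hw
    (by rw [smul_add, hhy, hy', ← hmove, add_comm])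
  have hhr : h * r ≠ 1 := fun e => by
    have e1 : r = h := by
      have := inv_eq_of_mul_eq_one_right e
      rw [C.mirror_inv hmir] at this
      exact this.symm
    refine hnc ?_
    have e2 : g * k * (g * k) = 1 := by rw [← hr, e1, C.mirror_sq hmir]
    have e3 := inv_eq_of_mul_eq_one_right e2
    rw [mul_inv_rev, C.mirror_inv hg, C.mirror_inv hk] at e3
    exact e3
  have hmax : ax g k ≤ fx (V := V) (h * r) := fun z hz => by
    rw [mem_fx, mul_smul, mem_fx.1 ((C.fx_mul hg hk hnc).symm ▸ hz : z ∈ fx r), mem_fx.1 (hax hz)]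
  have hynot : y ∉ ax (V := V) g k := fun hz => hy0 (by
    have : y ∈ pl (V := V) g k ⊓ ax g k := ⟨hy, hz⟩
    rwa [C.pl_inf_ax hg hk hnc, AddSubgroup.mem_bot] at this)
  have hmir2 : IsMirror (h * r) V :=
    C.fix_mirror hg hk hnc hhr hmax hynot (by rw [mul_smul, hhy])
  have hinv : h * r * h⁻¹ = r⁻¹ := by
    have e := C.mirror_sq hmir2
    rw [C.mirror_inv hmir]
    exact eq_inv_of_mul_eq_one_left (by rw [← e]; group)
  have hinv2 : h * r * r * (h * r)⁻¹ = r⁻¹ := by
    calc h * r * r * (h * r)⁻¹ = h * r * h⁻¹ := by group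
      _ = r⁻¹ := hinv
  exact ⟨h, h * r, C.inPlane_of_inverts hg hk hnc hmir hax hinv,
    C.inPlane_of_inverts hg hk hnc hmir2 hmax hinv2, mem_im.2 ⟨y, hy'⟩, by rw [mul_smul, hhy],
    hinv2⟩

theorem root {d : V} (hd : d ∈ pl g k) (hd0 : d ≠ 0) :
    ∃ h : H, InPlane g k h V ∧ d ∈ im (V := V) h := by
  obtain ⟨x, hx⟩ := (C.im_mul hg hk hnc).symm ▸ hd
  obtain ⟨y, hy, z, hz, rfl⟩ := C.decompose hg hk hnc x
  have hd' : (g * k) • y - y = d := by
    rw [← hx, delta_apply, smul_add, mem_fx.1 ((C.fx_mul hg hk hnc).symm ▸ hz : z ∈ fx (g * k)),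
      add_sub_add_right_eq_sub]
  have hy0 : y ≠ 0 := fun h => hd0 (by rw [← hd', h, smul_zero, sub_zero])
  obtain ⟨h, -, hh, -, hhd, -, -⟩ := C.cover hg hk hnc hy hy0
  exact ⟨h, hh, hd' ▸ hhd⟩

theorem exists_fix {y : V} (hy : y ∈ pl g k) (hy0 : y ≠ 0) :
    ∃ m : H, InPlane g k m V ∧ m • y = y := by
  obtain ⟨-, m, -, hm, -, hmy, -⟩ := C.cover hg hk hnc hy hy0
  exact ⟨m, hm, hmy⟩

theorem card_fx_pl {a : H} (ha : InPlane g k a V) :
    Nat.card ↥(fx (V := V) a ⊓ pl g k) = Nat.card (im (V := V) g) := by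
  have := C.finV
  have h : fx (V := V) a = (fx a ⊓ pl g k) ⊔ ax g k := by
    refine le_antisymm (fun x hx => ?_) (sup_le inf_le_left ha.2.2)
    obtain ⟨y, hy, z, hz, rfl⟩ := C.decompose hg hk hnc x
    refine AddSubgroup.add_mem_sup ⟨?_, hy⟩ hz
    simpa using (fx a).sub_mem hx (ha.2.2 hz)
  have h2 := congrArg (fun S : AddSubgroup V => Nat.card S) h
  rw [card_sup_of_disjoint _ _ (eq_bot_iff.2 ((inf_le_inf_right _ inf_le_right).trans
    (C.pl_inf_ax hg hk hnc).le)), C.card_fx_of_ax_le hg hk hnc ha.1 ha.2.2, mul_comm] at h2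
  exact (Nat.eq_of_mul_eq_mul_right Nat.card_pos h2).symm

theorem fix_unique {a b : H} (ha : InPlane g k a V) (hb : InPlane g k b V) {y : V}
    (hy : y ∈ pl g k) (hy0 : y ≠ 0) (h1 : a • y = y) (h2 : b • y = y) : a = b := by
  have := C.finV
  have hynot : y ∉ ax (V := V) g k := fun hz => hy0 (by
    have : y ∈ pl (V := V) g k ⊓ ax g k := ⟨hy, hz⟩
    rwa [C.pl_inf_ax hg hk hnc, AddSubgroup.mem_bot] at this)
  by_cases hp : p = 2
  · have hc := C.commute_of_fix_two hg hk hnc ha.1 hb.1 ha.2.2 hb.2.2 hynot h1 h2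
    by_contra hne
    have e1 : im (V := V) a ≤ fx a ⊓ pl g k :=
      fun e he => ⟨mem_fx.2 (by rw [C.smul_im ha.1 he, C.neg_eq_self hp]), ha.2.1 he⟩
    have e2 : im (V := V) b ≤ fx a ⊓ pl g k :=
      fun e he => ⟨mem_fx.2 (C.fix_im_of_commute hb.1 ha.1 hc.symm hne he), hb.2.1 he⟩
    have e1' := AddSubgroup.eq_of_le_of_card_ge e1
      (by rw [C.card_fx_pl hg hk hnc ha, (C.card_im_of_ax_le hg hk hnc ha.1 ha.2.2).1])
    have e2' := AddSubgroup.eq_of_le_of_card_ge e2
      (by rw [C.card_fx_pl hg hk hnc ha, (C.card_im_of_ax_le hg hk hnc hb.1 hb.2.2).1])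
    obtain ⟨e, he, he0⟩ := C.im_ne_bot ha.1
    exact hne (C.mirror_eq ha.1 hb.1 he (e2'.symm ▸ e1' ▸ he) he0)
  · exact C.unique_odd hg hk hnc hp ha.1 hb.1 ha.2.2 hb.2.2 hynot h1 h2

theorem inPlane_left : InPlane g k g V := ⟨hg, le_sup_left, inf_le_left⟩

theorem inPlane_right : InPlane g k k V := ⟨hk, le_sup_right, inf_le_right⟩

theorem pl_change {a b : H} (ha : InPlane g k a V) (hb : InPlane g k b V) (hab : ¬ Commute b a) :
    pl (V := V) a b = pl g k ∧ ax (V := V) a b = ax g k := by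
  have := C.finV
  refine ⟨AddSubgroup.eq_of_le_of_card_ge (sup_le ha.2.1 hb.2.1) ?_,
    C.fx_inf_fx hg hk hnc ha.1 hb.1 hab ha.2.2 hb.2.2⟩
  rw [C.card_pl ha.1 hb.1 hab, C.card_pl hg hk hnc, (C.card_im_of_ax_le hg hk hnc ha.1 ha.2.2).1]

theorem exists_noncommute {c : H} (hc : InPlane g k c V) :
    ∃ m : H, InPlane g k m V ∧ ¬ Commute m c := by
  rcases C.not_commute_of_ax_le hg hk hnc hc.1 hc.2.2 with h | h
  · exact ⟨g, C.inPlane_left hg hk hnc, fun e => h e.symm⟩
  · exact ⟨k, C.inPlane_right hg hk hnc, fun e => h e.symm⟩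

end Ctx

end Cfsg.Agent.Lib.BinaryAffine
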