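import Cfsg.Agent.Lib.BinaryAffine.Count

/-!
In characteristic two no mirror outside a plane commutes with exactly one of its mirrors.
-/

set_option autoImplicit false
set_option linter.unusedSectionVars false

namespace Cfsg.Agent.Lib.BinaryAffine

variable {V : Type*} [AddCommGroup V] {H : Type*} [Group H] [DistribMulAction H V]

theorem two_pow_sum {m l f : ℕ} (h : 2 ^ m = 2 ^ l + 2 ^ f) : l = f := by
  rcases lt_trichotomy l f with hlt | rfl | hlt
  · exfalso
    obtain ⟨j, rfl⟩ : ∃ j, f = l + 1 + j := ⟨f - l - 1, by omega⟩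
    have hm : l < m := (Nat.pow_lt_pow_iff_right (by norm_num)).1
      (h ▸ Nat.lt_add_of_pos_right (by positivity))
    obtain ⟨i, rfl⟩ : ∃ i, m = l + 1 + i := ⟨m - l - 1, by omega⟩
    rw [pow_add, pow_add, pow_add, pow_add, pow_one, mul_assoc, mul_assoc] at h
    have h' : 2 * 2 ^ i = 1 + 2 * 2 ^ j :=
      Nat.eq_of_mul_eq_mul_left (show 0 < 2 ^ l by positivity) (h.trans (by ring))
    omega
  · rfl
  · exfalso
    obtain ⟨j, rfl⟩ : ∃ j, l = f + 1 + j := ⟨l - f - 1, by omega⟩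
    have hm : f < m := (Nat.pow_lt_pow_iff_right (by norm_num)).1
      (h ▸ Nat.lt_add_of_pos_left (by positivity))
    obtain ⟨i, rfl⟩ : ∃ i, m = f + 1 + i := ⟨m - f - 1, by omega⟩
    rw [pow_add, pow_add, pow_add, pow_add, pow_one, mul_assoc, mul_assoc] at h
    have h' : 2 * 2 ^ i = 2 * 2 ^ j + 1 :=
      Nat.eq_of_mul_eq_mul_left (show 0 < 2 ^ f by positivity) (h.trans (by ring))
    omega

namespace Ctx

variable {p : ℕ} (C : Ctx p V H)
include C

theorem no_config_two (hp : p = 2) {g k : H} (hg : IsMirror g V) (hk : IsMirror k V)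
    (hnc : ¬ Commute k g) {a : H} (ha : IsMirror a V) (hag : a ≠ g) (hcg : Commute a g)
    (hdisj : im (V := V) a ⊓ pl g k = ⊥)
    (hone : ∀ m, InPlane g k m V → Commute a m → m = g) : False := by
  classical
  have := C.finV; have := C.finH
  set q := Nat.card (im (V := V) g) with hq
  have hq1 : 1 < q := C.one_lt_card_im hg
  set Pp := pl (V := V) g k
  set Z := ax (V := V) g k with hZ
  have hself : ∀ {h : H}, IsMirror h V → im (V := V) h ≤ fx h := fun hh e he =>
    mem_fx.2 (by rw [C.smul_im hh he, C.neg_eq_self hp])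
  have hak : ¬ Commute a k := fun h =>
    hnc (by rw [hone k (C.inPlane_right hg hk hnc) h])
  have hqa : Nat.card (im (V := V) a) = q :=
    (C.card_im_eq ha hk fun h => hak h.symm).trans (C.card_im_eq hg hk hnc).symm
  have hag0 : im (V := V) g ⊓ im a = ⊥ := C.im_inf_im hg ha hag
  set S := im (V := V) g ⊔ im a with hS
  have hScard : Nat.card S = q * q := by rw [hS, card_sup_of_disjoint _ _ hag0, hqa]
  have hSg : S ≤ fx g := sup_le (hself hg) fun e he => mem_fx.2 (C.fix_im_two hp ha hcg.symm he)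
  have hSa : S ≤ fx a := sup_le (fun e he => mem_fx.2 (C.fix_im_two hp hg hcg he)) (hself ha)
  set R := S ⊓ fx (V := V) k with hR
  have hRZ : R ≤ Z := fun x hx => ⟨hSg hx.1, hx.2⟩
  have hRa : R ≤ fx a := fun x hx => hSa hx.1
  have hkey : ∀ ea ∈ im (V := V) a, ∃ e ∈ im (V := V) g, ea - e ∈ R := fun ea hea => by
    obtain ⟨e, he, he'⟩ := C.exists_delta hg hk hnc (sub_mem_im k ea)
    refine ⟨e, he, S.sub_mem (AddSubgroup.mem_sup_right hea) (AddSubgroup.mem_sup_left he),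
      mem_fx.2 ?_⟩
    rw [smul_sub]
    exact sub_eq_sub_iff_sub_eq_sub.2 he'.symm
  have hgR : im (V := V) g ⊓ R = ⊥ := eq_bot_iff.2
    ((inf_le_inf le_sup_left hRZ).trans (C.pl_inf_ax hg hk hnc).le)
  have hSR : im (V := V) g ⊔ R = S := by
    refine le_antisymm (sup_le le_sup_left inf_le_left) (sup_le le_sup_left fun ea hea => ?_)
    obtain ⟨e, he, he'⟩ := hkey ea hea
    exact (add_sub_cancel e ea) ▸ AddSubgroup.add_mem_sup he he'
  have hRcard : Nat.card R = q := by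
    have h := card_sup_of_disjoint _ _ hgR
    rw [hSR, hScard] at h
    exact (Nat.eq_of_mul_eq_mul_left (by omega) h).symm
  set X := Pp ⊔ R with hX
  have hPR : Pp ⊓ R = ⊥ :=
    eq_bot_iff.2 ((inf_le_inf_left _ hRZ).trans (C.pl_inf_ax hg hk hnc).le)
  have hXcard : Nat.card X = q * q * q := by
    rw [hX, card_sup_of_disjoint _ _ hPR, C.card_pl hg hk hnc, hRcard]
  have haX : im (V := V) a ≤ X :=
    (le_sup_right.trans hSR.ge).trans (sup_le_sup_right le_sup_left _)
  have hplc : ∀ c, InPlane g k c V → c ≠ g → ¬ Commute c a := fun c hc hne h =>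
    hne (hone c hc h.symm)
  have hRc : ∀ c, InPlane g k c V → R ≤ ax a c := fun c hc => le_inf hRa (hRZ.trans hc.2.2)
  -- the roots of one axis
  have axis : ∀ j, InPlane g k j V → j ≠ g → ∀ c, InPlane g k c V → c ≠ g →
      ∃ b, InPlane a c b V ∧ im (V := V) b ≤ im j ⊔ R ∧ im j ⊔ R ≤ fx (V := V) b ∧ b ≠ a := by
    intro j hj hjg c hc hcg'
    have hcq : Nat.card (pl (V := V) a c) = q * q := by
      rw [C.card_pl ha hc.1 (hplc c hc hcg'), hqa]
    have hAj : Nat.card ↥(im (V := V) j ⊔ R) = q * q := by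
      rw [card_sup_of_disjoint _ _ (eq_bot_iff.2 ((inf_le_inf_right _ hj.2.1).trans hPR.le)),
        (C.card_im_of_ax_le hg hk hnc hj.1 hj.2.2).1, hRcard]
    obtain ⟨y, hy, hy0⟩ := inf_ne_bot_of_card (A := pl (V := V) a c) (B := im j ⊔ R) (X := X)
      (sup_le haX (hc.2.1.trans le_sup_left)) (sup_le_sup_right hj.2.1 _) (by
        rw [hXcard, hcq, hAj]; nlinarith [Nat.pos_of_ne_zero (by omega : q ≠ 0)])
    obtain ⟨b, hb, hyb⟩ := C.root ha hc.1 (hplc c hc hcg') hy.1 hy0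
    have hjy : j • y = y :=
      mem_fx.1 (sup_le (hself hj.1) (hRZ.trans hj.2.2) hy.2)
    have hjb : ∀ e ∈ im (V := V) b, j • e = e := fun e he => C.fix_im_of_fix hb.1 hyb hy0 hjy he
    have hbR : R ≤ fx (V := V) b := (hRc c hc).trans hb.2.2
    have hbq : Nat.card (im (V := V) b) = q :=
      ((C.card_im_of_ax_le ha hc.1 (hplc c hc hcg') hb.1 hb.2.2).1).trans hqa
    have hjP : fx (V := V) j ⊓ Pp ≤ im j := by
      have h := AddSubgroup.eq_of_le_of_card_ge (le_inf (hself hj.1) hj.2.1) (by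
        rw [C.card_fx_pl hg hk hnc hj, (C.card_im_of_ax_le hg hk hnc hj.1 hj.2.2).1])
      exact h.ge
    have h1 : im (V := V) b ≤ im j ⊔ R := fun e he => by
      have heX : e ∈ X := (sup_le haX (hc.2.1.trans le_sup_left)) (hb.2.1 he)
      obtain ⟨π, hπ, r, hr, rfl⟩ := AddSubgroup.mem_sup.1 heX
      have h := hjb _ he
      rw [smul_add, mem_fx.1 (hj.2.2 (hRZ hr)), add_left_inj] at h
      exact AddSubgroup.add_mem_sup (hjP ⟨mem_fx.2 h, hπ⟩) hr
    have heq : im (V := V) b ⊔ R = im j ⊔ R := by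
      refine AddSubgroup.eq_of_le_of_card_ge (sup_le h1 le_sup_right) ?_
      rw [hAj, card_sup_of_disjoint _ _ (eq_bot_iff.2 ((inf_le_inf hb.2.1 (hRc c hc)).trans
        (C.pl_inf_ax ha hc.1 (hplc c hc hcg')).le)), hbq, hRcard]
    refine ⟨b, hb, h1, heq ▸ sup_le (hself hb.1) hbR, ?_⟩
    rintro rfl
    exact hjg (hone j hj (C.commute_of_fix hb.1 hyb hy0 hjy).symm)
  have key : ∀ j, InPlane g k j V → j ≠ g → ∀ r ∈ R, ∀ y ∈ X, y ∉ im (V := V) j ⊔ R →
      ∃ t : H, t • y = y + r := by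
    intro j hj hjg
    set A := im (V := V) j ⊔ R with hA
    have hAcard : Nat.card A = q * q := by
      rw [hA, card_sup_of_disjoint _ _ (eq_bot_iff.2 ((inf_le_inf_right _ hj.2.1).trans hPR.le)),
        (C.card_im_of_ax_le hg hk hnc hj.1 hj.2.2).1, hRcard]
    choose b hbP hb1 hb2 hb3 using
      fun c : {c // InPlane g k c V ∧ c ≠ g} => axis j hj hjg c.1 c.2.1 c.2.2
    have hbR : ∀ c, im (V := V) (b c) ⊓ R = ⊥ := fun c => eq_bot_iff.2
      ((inf_le_inf (hbP c).2.1 (hRc c.1 c.2.1)).trans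
        (C.pl_inf_ax ha c.2.1.1 (hplc c.1 c.2.1 c.2.2)).le)
    have hbq : ∀ c, Nat.card (im (V := V) (b c)) = q := fun c =>
      ((C.card_im_of_ax_le ha c.2.1.1 (hplc c.1 c.2.1 c.2.2) (hbP c).1 (hbP c).2.2).1).trans hqa
    have hbinj : Function.Injective b := by
      intro c c' e
      have hh : ∀ c, pl (V := V) a c.1 = im a ⊔ im (b c) := fun c =>
        (AddSubgroup.eq_of_le_of_card_ge
          (show im (V := V) a ⊔ im (b c) ≤ pl a c.1 from sup_le le_sup_left (hbP c).2.1) (by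
          rw [card_sup_of_disjoint _ _ (C.im_inf_im ha (hbP c).1 (hb3 c)), hbq, hqa,
            C.card_pl ha c.2.1.1 (hplc c.1 c.2.1 c.2.2), hqa])).symm
      have e2 : pl (V := V) a c.1 = pl a c'.1 := by rw [hh c, hh c', e]
      by_contra hne
      have hne' : c'.1 ≠ c.1 := fun h => hne (Subtype.ext h.symm)
      have hle : Pp ≤ pl a c.1 := by
        have hc' : im (V := V) c'.1 ≤ pl a c.1 := e2 ▸ le_sup_right
        refine le_trans (le_of_eq (AddSubgroup.eq_of_le_of_card_ge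
          (sup_le c.2.1.2.1 c'.2.1.2.1) ?_).symm) (sup_le le_sup_right hc')
        rw [card_sup_of_disjoint _ _ (C.im_inf_im c.2.1.1 c'.2.1.1 hne'),
          C.card_pl hg hk hnc, (C.card_im_of_ax_le hg hk hnc c.2.1.1 c.2.1.2.2).1,
          (C.card_im_of_ax_le hg hk hnc c'.2.1.1 c'.2.1.2.2).1]
      have heq : Pp = pl a c.1 := AddSubgroup.eq_of_le_of_card_ge hle (by
        rw [C.card_pl hg hk hnc, C.card_pl ha c.2.1.1 (hplc c.1 c.2.1 c.2.2), hqa])
      obtain ⟨e0, he0, he00⟩ := C.im_ne_bot ha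
      exact he00 (by
        have : e0 ∈ im (V := V) a ⊓ Pp := ⟨he0, heq ▸ AddSubgroup.mem_sup_left he0⟩
        rwa [hdisj, AddSubgroup.mem_bot] at this)
    have hcS : Nat.card {c // InPlane g k c V ∧ c ≠ g} = q := by
      have h := C.card_members hg hk hnc
      let e : {c // InPlane g k c V ∧ c ≠ g} ≃
          {c : {c // InPlane g k c V} // c ≠ ⟨g, C.inPlane_left hg hk hnc⟩} :=
        { toFun := fun c => ⟨⟨c.1, c.2.1⟩, fun h => c.2.2 (congrArg Subtype.val h)⟩
          invFun := fun c => ⟨c.1.1, c.1.2, fun h => c.2 (Subtype.ext h)⟩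
          left_inv := fun c => rfl
          right_inv := fun c => rfl }
      have := Fintype.ofFinite {c // InPlane g k c V}
      rw [Nat.card_congr e, Nat.card_eq_fintype_card, Fintype.card_subtype_compl,
        Fintype.card_subtype_eq, ← Nat.card_eq_fintype_card, h]
      omega
    have hcover : ∀ v ∈ A, v ∉ R → ∃ c, v ∈ im (V := V) (b c) := by
      let f : (Σ c : {c // InPlane g k c V ∧ c ≠ g}, {v : im (V := V) (b c) // v ≠ 0}) →
          {v : A // (v : V) ∉ R} := fun x => ⟨⟨x.2.1.1, hb1 x.1 x.2.1.2⟩, fun h => x.2.2 (by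
            have : (x.2.1 : V) ∈ im (V := V) (b x.1) ⊓ R := ⟨x.2.1.2, h⟩
            rw [hbR, AddSubgroup.mem_bot] at this
            exact Subtype.ext this)⟩
      have hf : Function.Injective f := by
        rintro ⟨c, ⟨⟨v, hv⟩, hv0⟩⟩ ⟨c', ⟨⟨w, hw⟩, hw0⟩⟩ e
        have e' : v = w := congrArg (fun z => ((z : A) : V)) (congrArg Subtype.val e)
        subst e'
        obtain rfl : c = c' := hbinj (C.mirror_eq (hbP c).1 (hbP c').1 hv hw
          (fun h => hv0 (Subtype.ext h)))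
        rfl
      have hcard : Nat.card {v : A // (v : V) ∉ R} ≤
          Nat.card (Σ c : {c // InPlane g k c V ∧ c ≠ g}, {v : im (V := V) (b c) // v ≠ 0}) := by
        have := Fintype.ofFinite {c // InPlane g k c V ∧ c ≠ g}
        have := Fintype.ofFinite A
        have e : Nat.card {x : A // (x : V) ∈ R} = q := (Nat.card_congr
          (AddSubgroup.addSubgroupOfEquivOfLe (le_sup_right : R ≤ A)).toEquiv).trans hRcard
        rw [Nat.card_sigma, Finset.sum_eq_card_nsmul (b := q - 1) fun c _ => by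
          rw [card_nonzero, hbq c], Finset.card_univ, ← Nat.card_eq_fintype_card, hcS,
          smul_eq_mul, Nat.card_eq_fintype_card, Fintype.card_subtype_compl,
          ← Nat.card_eq_fintype_card, ← Nat.card_eq_fintype_card, hAcard,
          e, Nat.mul_sub, mul_one]
      intro v hv hvR
      obtain ⟨⟨c, w⟩, hw⟩ := (hf.bijective_of_nat_card_le hcard).2 ⟨⟨v, hv⟩, hvR⟩
      refine ⟨c, ?_⟩
      have e : (w.1.1 : V) = v := congrArg (fun z => ((z : A) : V)) (congrArg Subtype.val hw)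
      exact e ▸ w.1.2
    intro r hr y hyX hyA
    have hby : ∀ c, b c • y ≠ y := by
      intro c h
      obtain ⟨π, hπ, r', hr', hsum⟩ := AddSubgroup.mem_sup.1 hyX
      have hπj : π ∉ im (V := V) j := fun h' =>
        hyA (hsum ▸ AddSubgroup.add_mem_sup h' hr')
      have hπ0 : π ≠ 0 := fun h' => hπj (h' ▸ AddSubgroup.zero_mem _)
      have hbπ : b c • π = π := by
        rw [← hsum, smul_add, mem_fx.1 (hb2 c (AddSubgroup.mem_sup_right hr')), add_left_inj] at h
        exact h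
      obtain ⟨m, hm, hπm⟩ := C.root hg hk hnc hπ hπ0
      have hmj : m ≠ j := fun h' => hπj (h' ▸ hπm)
      have hplj : im (V := V) j ⊔ im m = Pp :=
        AddSubgroup.eq_of_le_of_card_ge (sup_le hj.2.1 hm.2.1) (by
          rw [card_sup_of_disjoint _ _ (C.im_inf_im hj.1 hm.1 hmj), C.card_pl hg hk hnc,
            (C.card_im_of_ax_le hg hk hnc hj.1 hj.2.2).1,
            (C.card_im_of_ax_le hg hk hnc hm.1 hm.2.2).1])
      have hfix : X ≤ fx (V := V) (b c) := by
        rw [hX, ← hplj]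
        refine sup_le (sup_le (le_sup_left.trans (hb2 c)) fun e he => mem_fx.2 ?_)
          (le_sup_right.trans (hb2 c))
        exact C.fix_im_of_fix hm.1 hπm hπ0 hbπ he
      obtain ⟨ea, hea, hea0⟩ := C.im_ne_bot ha
      obtain ⟨ec, hec, hec0⟩ := C.im_ne_bot c.2.1.1
      rcases C.not_commute_of_ax_le ha c.2.1.1 (hplc c.1 c.2.1 c.2.2) (hbP c).1 (hbP c).2.2
        with h' | h'
      · exact h' (C.commute_of_fix ha hea hea0 (mem_fx.1 (hfix (haX hea))))
      · exact h' (C.commute_of_fix c.2.1.1 hec hec0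
          (mem_fx.1 (hfix (AddSubgroup.mem_sup_left (c.2.1.2.1 hec)))))
    let D : AddSubgroup V :=
      { carrier := {δ | δ ∈ A ∧ ∃ t : H, A ≤ fx (V := V) t ∧ t • y = y + δ}
        zero_mem' := ⟨A.zero_mem, 1, fun x _ => mem_fx.2 (one_smul _ _), by rw [one_smul, add_zero]⟩
        add_mem' := by
          rintro δ ε ⟨hδ, t, ht, hty⟩ ⟨hε, s, hs, hsy⟩
          refine ⟨A.add_mem hδ hε, t * s, fun x hx => mem_fx.2 ?_, ?_⟩
          · rw [mul_smul, mem_fx.1 (hs hx), mem_fx.1 (ht hx)]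
          · rw [mul_smul, hsy, smul_add, hty, mem_fx.1 (ht hε)]; abel
        neg_mem' := by intro δ hδ; rwa [C.neg_eq_self hp δ] }
    have hbD : ∀ c, b c • y - y ∈ D ∧ b c • y - y ∉ R := fun c => by
      refine ⟨⟨hb1 c (sub_mem_im _ _), b c, hb2 c, by abel⟩, fun h => hby c ?_⟩
      have : b c • y - y ∈ im (V := V) (b c) ⊓ R := ⟨sub_mem_im _ _, h⟩
      rwa [hbR, AddSubgroup.mem_bot, sub_eq_zero] at this
    have hcardD : Nat.card {δ : D // (δ : V) ∉ R} = q := by
      rw [← hcS]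
      symm
      refine Nat.card_congr (Equiv.ofBijective
        (fun c => (⟨⟨_, (hbD c).1⟩, (hbD c).2⟩ : {δ : D // (δ : V) ∉ R})) ⟨?_, ?_⟩)
      · intro c c' e
        have e' : b c • y - y = b c' • y - y := congrArg (fun z => ((z : D) : V)) (congrArg Subtype.val e)
        exact hbinj (C.mirror_eq (hbP c).1 (hbP c').1 (sub_mem_im _ _) (e' ▸ sub_mem_im _ _)
          (sub_ne_zero.2 (hby c)))
      · rintro ⟨⟨δ, hδA, t, htA, hty⟩, hδR⟩
        obtain ⟨c, hc⟩ := hcover δ hδA hδR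
        refine ⟨c, Subtype.ext (Subtype.ext ?_)⟩
        have := (C.mirror_move (hbP c).1 hc (fun h => hδR (h ▸ R.zero_mem))).2 t y hty
        simp [this]
    have hDR : D ⊓ R = R := by
      have h1 : Nat.card D = Nat.card ↥(D ⊓ R) + q := by
        have := Fintype.ofFinite D
        rw [← hcardD, Nat.card_eq_fintype_card (α := {δ : D // (δ : V) ∉ R}),
          Fintype.card_subtype_compl, ← Nat.card_eq_fintype_card, ← Nat.card_eq_fintype_card]
        have e : Nat.card {δ : D // (δ : V) ∈ R} = Nat.card ↥(D ⊓ R) :=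
          Nat.card_congr (Equiv.subtypeSubtypeEquivSubtypeInter _ _)
        rw [e]
        have : Nat.card ↥(D ⊓ R) ≤ Nat.card D := AddSubgroup.card_le_of_le inf_le_left
        omega
      obtain ⟨m, hm⟩ := C.card_eq_pow D
      obtain ⟨l, hl⟩ := C.card_eq_pow (D ⊓ R)
      obtain ⟨f, hf⟩ := C.card_eq_pow R
      rw [hRcard] at hf
      rw [hm, hl, hf, hp] at h1
      refine AddSubgroup.eq_of_le_of_card_ge inf_le_right ?_
      rw [hRcard, hf, hl, hp, two_pow_sum h1]
    have : r ∈ D := (hDR.ge hr).1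
    obtain ⟨-, t, -, ht⟩ := this
    exact ⟨t, ht⟩
  obtain ⟨r, hr, hr0⟩ := exists_ne_zero (hRcard ▸ hq1 : 1 < Nat.card R)
  obtain ⟨j1, hj1, hj1g, j2, hj2, hj2g, hj⟩ : ∃ j1, InPlane g k j1 V ∧ j1 ≠ g ∧
      ∃ j2, InPlane g k j2 V ∧ j2 ≠ g ∧ j1 ≠ j2 := by
    refine ⟨k, C.inPlane_right hg hk hnc, C.ne_of_not_commute hnc, g * k * g⁻¹, ⟨C.mirror_conj hk g, ?_, ?_⟩,
      fun h => C.ne_of_not_commute hnc (conj_eq_conj_iff_aux h), fun h => hnc ?_⟩
    · rintro _ ⟨x, rfl⟩
      rw [delta_apply, mul_smul, mul_smul,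
        show g • k • g⁻¹ • x - x = g • (k • g⁻¹ • x - g⁻¹ • x) by rw [smul_sub, smul_inv_smul]]
      set e := k • g⁻¹ • x - g⁻¹ • x with he
      rw [show g • e = (g • e - e) + e by abel]
      exact AddSubgroup.add_mem_sup (sub_mem_im g e) (sub_mem_im k _)
    · intro z hz
      rw [mem_fx, mul_smul, mul_smul, inv_smul_eq_iff.2 (mem_fx.1 hz.1).symm, mem_fx.1 hz.2,
        mem_fx.1 hz.1]
    · exact (mul_inv_eq_iff_eq_mul.1 h.symm).symm
  obtain ⟨y1, hy1, hy10⟩ := C.im_ne_bot hj1.1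
  obtain ⟨y2, hy2, hy20⟩ := C.im_ne_bot hj2.1
  have out : ∀ (i j : H), InPlane g k i V → InPlane g k j V → i ≠ j → ∀ y ∈ im (V := V) i, y ≠ 0 →
      y ∉ im (V := V) j ⊔ R := by
    intro i j hi hj hij y hy hy0 hmem
    obtain ⟨e, he, r', hr', hsum⟩ := AddSubgroup.mem_sup.1 hmem
    have : y - e ∈ Pp ⊓ R := ⟨Pp.sub_mem (hi.2.1 hy) (hj.2.1 he), by rw [← hsum]; simpa using hr'⟩
    rw [hPR, AddSubgroup.mem_bot, sub_eq_zero] at this
    exact hij (C.mirror_eq hi.1 hj.1 hy (this ▸ he) hy0)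
  have hyX : ∀ y ∈ Pp, y ∈ X := fun y hy => AddSubgroup.mem_sup_left hy
  have e1 := key j2 hj2 hj2g r hr y1 (hyX _ (hj1.2.1 hy1)) (out j1 j2 hj1 hj2 hj y1 hy1 hy10)
  have e2 := key j1 hj1 hj1g r hr y2 (hyX _ (hj2.2.1 hy2)) (out j2 j1 hj2 hj1 (Ne.symm hj) y2 hy2 hy20)
  have e3 := key j1 hj1 hj1g r hr (y1 + y2) (hyX _ (Pp.add_mem (hj1.2.1 hy1) (hj2.2.1 hy2)))
    (fun h => out j2 j1 hj2 hj1 (Ne.symm hj) y2 hy2 hy20
      (by simpa using (im (V := V) j1 ⊔ R).sub_mem h (AddSubgroup.mem_sup_left hy1)))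
  obtain ⟨h, h1, -, -⟩ := C.exists_move r ⟨e1.choose, y1, e1.choose_spec⟩
  have a1 := h1 _ _ e1.choose_spec
  have a2 := h1 _ _ e2.choose_spec
  have a3 := h1 _ _ e3.choose_spec
  rw [smul_add, a1, a2] at a3
  have : r + r = r := by
    refine add_left_cancel (a := y1 + y2) ?_
    rw [← a3]; abel
  exact hr0 (add_eq_left.1 this)
where
  conj_eq_conj_iff_aux {g k : H} (h : g * k * g⁻¹ = g) : k = g := by
    have := congrArg (fun z => g⁻¹ * z * g) h
    simpa [mul_assoc] using this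

end Ctx

end Cfsg.Agent.Lib.BinaryAffine
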